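import Cfsg.Agent.H240.GenTwF.Tools

/-!
# S2187, TRI-3: abstract part (helper314)

* `aut_eq_of_quot` : automorphisms of a perfect group which agree modulo the centre are equal;
* `DatZ p Lin σ` : the data of a field automorphism of a group with centre: `L = C_G(σ)` is perfect, `Gen p L`, the
  overgroups of `L` are `G` or centralised by `σ` modulo the centre, no nontrivial automorphism in `Lin` centralises `L`;
* `field_top` : `E ≤ Aut G` elementary abelian with a nontrivial element in `Lin` and an element outside `Lin`, all elements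
  outside `Lin` having `DatZ`: `Gam p E = ⊤`;
-/

set_option autoImplicit false
set_option linter.unusedSectionVars false

namespace Cfsg.Agent.H314.G3

open Cfsg Subgroup Cfsg.Agent.H818.Gen Cfsg.Agent.H240.GenTwF

section perf

variable {G : Type*} [Group G]

/-- an automorphism-like map which is trivial modulo the centre is trivial -/
theorem aut_eq_of_center (hG : commutator G = ⊤) {α β : MulAut G} (h : ∀ g, (α g)⁻¹ * β g ∈ center G) : α = β := by
  let f : G →* G :=
    { toFun := fun g => (α g)⁻¹ * β g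
      map_one' := by simp
      map_mul' := fun a b => by
        have h1 := Subgroup.mem_center_iff.1 (h a)
        have h2 : (α a)⁻¹ * β a * β b = β b * ((α a)⁻¹ * β a) := (h1 (β b)).symm
        rw [map_mul, map_mul, mul_inv_rev]
        calc (α b)⁻¹ * (α a)⁻¹ * (β a * β b) = (α b)⁻¹ * ((α a)⁻¹ * β a * β b) := by group
          _ = (α b)⁻¹ * (β b * ((α a)⁻¹ * β a)) := by rw [h2]
          _ = ((α b)⁻¹ * β b) * ((α a)⁻¹ * β a) := by group
          _ = (α a)⁻¹ * β a * ((α b)⁻¹ * β b) := by rw [h1] }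
  have h3 : commutator G ≤ f.ker := by
    rw [commutator_def, Subgroup.commutator_le]
    intro a _ b _
    have h4 : f b ∈ center G := h b
    rw [MonoidHom.mem_ker, map_commutatorElement, commutatorElement_eq_one_iff_mul_comm]
    exact Subgroup.mem_center_iff.1 h4 (f a)
  ext g
  have h5 : g ∈ f.ker := h3 (by rw [hG]; exact mem_top g)
  have h6 : (α g)⁻¹ * β g = 1 := h5
  exact (inv_mul_eq_one.1 h6)

/-- an automorphism of `G` centralising `L` modulo the centre centralises the perfect subgroup `L` -/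
theorem fix_of_center {L : Subgroup G} (hL : commutator ↥L = ⊤) {x : MulAut G} (h : ∀ g ∈ L, g⁻¹ * x g ∈ center G) :
    ∀ g ∈ L, x g = g := by
  let f : ↥L →* G :=
    { toFun := fun g => (g : G)⁻¹ * x g
      map_one' := by simp
      map_mul' := fun a b => by
        have h1 := Subgroup.mem_center_iff.1 (h a a.2)
        have h2 : (a : G)⁻¹ * x a * x b = x b * ((a : G)⁻¹ * x a) := (h1 (x b)).symm
        rw [Subgroup.coe_mul, map_mul, mul_inv_rev]
        calc (b : G)⁻¹ * (a : G)⁻¹ * (x a * x b) = (b : G)⁻¹ * ((a : G)⁻¹ * x a * x b) := by group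
          _ = (b : G)⁻¹ * (x b * ((a : G)⁻¹ * x a)) := by rw [h2]
          _ = ((b : G)⁻¹ * x b) * ((a : G)⁻¹ * x a) := by group
          _ = (a : G)⁻¹ * x a * ((b : G)⁻¹ * x b) := by rw [h1] }
  have h3 : commutator ↥L ≤ f.ker := by
    rw [commutator_def, Subgroup.commutator_le]
    intro a _ b _
    have h4 : f b ∈ center G := h b b.2
    rw [MonoidHom.mem_ker, map_commutatorElement, commutatorElement_eq_one_iff_mul_comm]
    exact Subgroup.mem_center_iff.1 h4 (f a)
  intro g hg
  have h5 : (⟨g, hg⟩ : ↥L) ∈ f.ker := h3 (by rw [hL]; exact mem_top _)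
  have h6 : g⁻¹ * x g = 1 := h5
  exact (inv_mul_eq_one.1 h6).symm

end perf

section dat

variable {G : Type*} [Group G]

/-- the fixed points of `σ` -/
def fx (σ : MulAut G) : Subgroup G where
  carrier := {g | σ g = g}
  one_mem' := map_one σ
  mul_mem' := fun {a b} ha hb => by
    show σ (a * b) = a * b
    rw [map_mul, show σ a = a from ha, show σ b = b from hb]
  inv_mem' := fun {a} ha => by
    show σ a⁻¹ = a⁻¹
    rw [map_inv, show σ a = a from ha]

theorem mem_fx {σ : MulAut G} {g : G} : g ∈ fx σ ↔ σ g = g := Iff.rfl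

/-- the data of a field automorphism -/
structure DatZ (p : ℕ) (Lin : Subgroup (MulAut G)) (σ : MulAut G) : Prop where
  gen : Gen p ↥(fx σ)
  perf : commutator ↥(fx σ) = ⊤
  ovg : ∀ M : Subgroup G, fx σ ≤ M → M = ⊤ ∨ ∀ g ∈ M, g⁻¹ * σ g ∈ center G
  cen : ∀ x ∈ Lin, (∀ g, σ g = g → x g = g) → x = 1

theorem fx_conj (f σ : MulAut G) : fx (f * σ * f⁻¹) = (fx σ).map f.toMonoidHom := by
  ext g
  constructor
  · intro hg
    have hg' : f (σ (f⁻¹ g)) = g := hg
    refine ⟨f⁻¹ g, ?_, MulAut.apply_inv_self G f g⟩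
    show σ (f⁻¹ g) = f⁻¹ g
    have h1 : f⁻¹ (f (σ (f⁻¹ g))) = f⁻¹ g := by rw [hg']
    rwa [MulAut.inv_apply_self] at h1
  · rintro ⟨x, hx, rfl⟩
    show f (σ (f⁻¹ (f x))) = f x
    rw [MulAut.inv_apply_self, show σ x = x from hx]

theorem perf_map {H : Type*} [Group H] (e : G ≃* H) (h : commutator G = ⊤) : commutator H = ⊤ := by
  have h1 : (commutator G).map e.toMonoidHom = commutator H := by
    rw [commutator_def, commutator_def, map_commutator, ← MonoidHom.range_eq_map,
      MonoidHom.range_eq_top.2 e.surjective]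
  rw [← h1, h, ← MonoidHom.range_eq_map, MonoidHom.range_eq_top.2 e.surjective]

theorem center_apply (f : MulAut G) {z : G} (hz : z ∈ center G) : f z ∈ center G := by
  rw [Subgroup.mem_center_iff] at hz ⊢
  intro g
  have h1 := congrArg f (hz (f⁻¹ g))
  rwa [map_mul, map_mul, MulAut.apply_inv_self] at h1

theorem DatZ.conj {p : ℕ} {Lin : Subgroup (MulAut G)} {σ : MulAut G} (h : DatZ p Lin σ) {f : MulAut G} (hfL : f ∈ Lin) :
    DatZ p Lin (f * σ * f⁻¹) := by
  have hff : ∀ g : G, f (f⁻¹ g) = g := fun g => MulAut.apply_inv_self G f g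
  have hff' : ∀ g : G, f⁻¹ (f g) = g := fun g => MulAut.inv_apply_self G f g
  have e : ↥(fx σ) ≃* ↥(fx (f * σ * f⁻¹)) :=
    ((fx σ).equivMapOfInjective f.toMonoidHom f.injective).trans (MulEquiv.subgroupCongr (fx_conj f σ).symm)
  refine ⟨h.gen.congr e, perf_map e h.perf, fun M hM => ?_, fun x hx hxL => ?_⟩
  · have h6 : fx σ ≤ M.comap f.toMonoidHom := by
      rw [← map_le_iff_le_comap, ← fx_conj]
      exact hM
    rcases h.ovg _ h6 with h7 | h7
    · left
      rw [eq_top_iff]
      intro g _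
      have h8 : f⁻¹ g ∈ M.comap f.toMonoidHom := by rw [h7]; exact mem_top _
      have h9 : f (f⁻¹ g) ∈ M := h8
      rwa [hff] at h9
    · right
      intro g hg
      have h8 : f⁻¹ g ∈ M.comap f.toMonoidHom := by
        show f (f⁻¹ g) ∈ M
        rwa [hff]
      have h9 := center_apply f (h7 _ h8)
      rw [map_mul, map_inv, hff] at h9
      exact h9
  · have h6 : f⁻¹ * x * f ∈ Lin := Lin.mul_mem (Lin.mul_mem (Lin.inv_mem hfL) hx) hfL
    have h7 := h.cen _ h6 fun g hg => by
      have h8 : x (f g) = f g := hxL _ (by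
        show f (σ (f⁻¹ (f g))) = f g
        rw [hff', hg])
      show f⁻¹ (x (f g)) = g
      rw [h8]
      exact hff' g
    calc x = f * (f⁻¹ * x * f) * f⁻¹ := by group
      _ = 1 := by rw [h7]; group

variable [Finite G] {p : ℕ} [hp : Fact p.Prime]

/-- **Field automorphisms.** -/
theorem field_top {Lin : Subgroup (MulAut G)} {E : Subgroup (MulAut G)} (hE : IsElementaryAbelian p E)
    (hc : p ^ 2 ≤ Nat.card E) (h : ∀ ψ ∈ E, ψ ∉ Lin → DatZ p Lin ψ) {ψ x : MulAut G} (hψ : ψ ∈ E) (hψ' : ψ ∉ Lin)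
    (hx : x ∈ E) (hx' : x ∈ Lin) (hx1 : x ≠ 1) : Gam p E = ⊤ := by
  by_contra hne
  have hcomm : ∀ a ∈ E, ∀ b ∈ E, a * b = b * a := fun a ha b hb =>
    congrArg (fun z : ↥E => (z : MulAut G)) (hE.1.1.1 ⟨a, ha⟩ ⟨b, hb⟩)
  have hle : ∀ τ ∈ E, τ ∉ Lin → fx τ ≤ Gam p E := by
    intro τ hτ hτ'
    refine le_Gam_of_gen hE hc (fun φ hφ g hg => ?_) (h τ hτ hτ').gen
    show τ (φ g) = φ g
    have h1 : (τ * φ) g = (φ * τ) g := by rw [hcomm τ hτ φ hφ]
    have h2 : τ (φ g) = φ (τ g) := h1
    rw [h2, show τ g = g from hg]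
  have key : ∀ τ ∈ E, τ ∉ Lin → ∀ g ∈ Gam p E, g⁻¹ * τ g ∈ center G := fun τ hτ hτ' =>
    ((h τ hτ hτ').ovg _ (hle τ hτ hτ')).resolve_left hne
  have D := h ψ hψ hψ'
  refine hx1 (D.cen x hx' (fix_of_center D.perf fun g hg => ?_))
  have hg' : ψ g = g := hg
  have h7 := key (x * ψ) (E.mul_mem hx hψ) (fun h => hψ' (by
    have := Lin.mul_mem (Lin.inv_mem hx') h
    rwa [inv_mul_cancel_left] at this)) g (hle ψ hψ hψ' hg)
  have h8 : g⁻¹ * x (ψ g) ∈ center G := h7
  rwa [hg'] at h8

end dat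

end Cfsg.Agent.H314.G3
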