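import Cfsg.Agent.H314.G3.Comm
import Cfsg.Agent.H783.NormF
import Cfsg.Agent.H321.Ker.Field

/-!
# S2187, TRI-3: elementary abelian `3`-groups and Heisenberg pairs (helper314)

* `exists_pair` : two independent elements of an elementary abelian group of order `≥ 9`;
* `card_eq_nine` : `E = {x ^ i y ^ j}`, `9 ≤ |E|` : `|E| = 9`;
* `isSc_of_comm` : the elements commuting with a Heisenberg pair are scalar;
* `heis_word` : an element commuting with a Heisenberg pair modulo scalars is a word modulo scalars.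
-/

set_option autoImplicit false
set_option linter.unusedSectionVars false

namespace Cfsg.Agent.H314.G3

open Matrix Cfsg Cfsg.Agent.CpAut.Psl

section grp

variable {X : Type*} [Group X]

theorem exists_pair {E : Subgroup X} [Finite E] (hE : IsElementaryAbelian 3 E) (hc : 3 ^ 2 ≤ Nat.card E) :
    ∃ x ∈ E, ∃ y ∈ E, ∀ i j : ℕ, x ^ i * y ^ j = 1 → 3 ∣ i ∧ 3 ∣ j := by
  have hne : Nontrivial E := by
    rw [← Finite.one_lt_card_iff_nontrivial]
    omega
  obtain ⟨⟨x, hx⟩, hx1⟩ := exists_ne (1 : E)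
  have hx1' : x ≠ 1 := fun h => hx1 (Subtype.ext h)
  have hx3 : x ^ 3 = 1 := hE.2 x hx
  have hox : orderOf x = 3 := orderOf_eq_prime hx3 hx1'
  have h1 : ∃ y ∈ E, y ∉ Subgroup.zpowers x := by
    by_contra hcon
    push Not at hcon
    have h2 : Nat.card E ≤ Nat.card (Subgroup.zpowers x) := by
      have : Finite (Subgroup.zpowers x) := by
        apply Nat.finite_of_card_ne_zero
        rw [Nat.card_zpowers, hox]; norm_num
      exact Subgroup.card_le_of_le (fun y hy => hcon y hy)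
    rw [Nat.card_zpowers, hox] at h2
    omega
  obtain ⟨y, hy, hyx⟩ := h1
  have hy3 : y ^ 3 = 1 := hE.2 y hy
  refine ⟨x, hx, y, hy, fun i j hij => ?_⟩
  have h3j : 3 ∣ j := by
    by_contra h3
    apply hyx
    have h4 : y ^ j ∈ Subgroup.zpowers x := by
      rw [← inv_eq_of_mul_eq_one_right hij]
      exact (Subgroup.zpowers x).inv_mem (Subgroup.pow_mem _ (Subgroup.mem_zpowers x) i)
    have h5 : j % 3 = 1 ∨ j % 3 = 2 := by omega
    rcases h5 with h5 | h5
    · have h6 : y ^ j = y := by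
        rw [← Nat.div_add_mod j 3, h5, pow_add, pow_mul, hy3, one_pow, one_mul, pow_one]
      rwa [h6] at h4
    · have h6 : (y ^ j) ^ 2 = y := by
        rw [← pow_mul, ← Nat.div_add_mod j 3, h5, add_mul, pow_add, mul_assoc, pow_mul, hy3, one_pow, one_mul,
          show 2 * 2 = 3 + 1 from rfl, pow_succ, hy3, one_mul]
      rw [← h6]
      exact Subgroup.pow_mem _ h4 2
  obtain ⟨k, hk⟩ := h3j
  rw [hk, pow_mul, hy3, one_pow, mul_one] at hij
  refine ⟨?_, hk ▸ dvd_mul_right 3 k⟩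
  rw [← hox]
  exact orderOf_dvd_of_pow_eq_one hij

theorem card_eq_nine {E : Subgroup X} [Finite E] (hE : IsElementaryAbelian 3 E) (hc : 3 ^ 2 ≤ Nat.card E) {x y : X}
    (hx : x ∈ E) (hy : y ∈ E) (h : ∀ φ ∈ E, ∃ i j : ℕ, φ = x ^ i * y ^ j) : Nat.card E = 3 ^ 2 := by
  refine le_antisymm ?_ hc
  let f : Fin 3 × Fin 3 → E := fun ij => ⟨x ^ (ij.1 : ℕ) * y ^ (ij.2 : ℕ), E.mul_mem (E.pow_mem hx _) (E.pow_mem hy _)⟩
  have hf : Function.Surjective f := by
    rintro ⟨φ, hφ⟩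
    obtain ⟨i, j, rfl⟩ := h φ hφ
    refine ⟨(⟨i % 3, Nat.mod_lt _ (by norm_num)⟩, ⟨j % 3, Nat.mod_lt _ (by norm_num)⟩), Subtype.ext ?_⟩
    show x ^ (i % 3) * y ^ (j % 3) = x ^ i * y ^ j
    have h1 : x ^ (i % 3) = x ^ i := by
      conv_rhs => rw [← Nat.div_add_mod i 3, pow_add, pow_mul, hE.2 x hx, one_pow, one_mul]
    have h2 : y ^ (j % 3) = y ^ j := by
      conv_rhs => rw [← Nat.div_add_mod j 3, pow_add, pow_mul, hE.2 y hy, one_pow, one_mul]
    rw [h1, h2]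
  have h1 := Nat.card_le_card_of_surjective f hf
  rw [Nat.card_prod, Nat.card_fin] at h1
  simpa using h1

end grp

section heis

variable {F : Type} [Field F]

theorem isSc_iff_mem {g : GL (Fin 3) F} : IsSc g ↔ g ∈ Cfsg.Geo.scalars (Fin 3) F := by
  rw [Cfsg.Geo.mem_scalars_iff]
  constructor
  · rintro ⟨c, rfl⟩
    exact ⟨c, coe_scg c⟩
  · rintro ⟨c, hc⟩
    exact ⟨c, Units.ext (by rw [hc, coe_scg])⟩

theorem coe_scg_mul (c : Fˣ) (g : GL (Fin 3) F) :
    ((scg c * g : GL (Fin 3) F) : Matrix (Fin 3) (Fin 3) F) = (c : F) • (g : Matrix (Fin 3) (Fin 3) F) := by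
  rw [Units.val_mul, coe_scg, smul_mul_assoc, one_mul]

open Cfsg.Agent.H321.Ker in
theorem isSc_of_comm [Fintype F] {a b : GL (Fin 3) F} {ζ : Fˣ} (hζ1 : ζ ≠ 1) (hab : a * b = scg ζ * (b * a))
    (ha : IsSc (a ^ 3)) (hb : IsSc (b ^ 3)) {N : GL (Fin 3) F} (hNa : N * a = a * N) (hNb : N * b = b * N) : IsSc N := by
  have : Fact (Nat.Prime 3) := ⟨Nat.prime_three⟩
  obtain ⟨P, ζ', β, hζ', hζ'3, -, h⟩ := Cfsg.Agent.H783.NormF.normalForm (p := 3) (by norm_num) hζ1
    (by rw [← Units.val_mul, hab, coe_scg_mul, Units.val_mul]) (isSc_iff_mem.1 ha) (isSc_iff_mem.1 hb)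
  -- `N` commutes with everything
  have hN : ∀ k ∈ Subgroup.closure {a, b} ⊔ Cfsg.Geo.scalars (Fin 3) F, N * k = k * N := by
    have h1 : Subgroup.closure {a, b} ⊔ Cfsg.Geo.scalars (Fin 3) F ≤ Subgroup.centralizer {N} := by
      rw [sup_le_iff, Subgroup.closure_le]
      constructor
      · rintro k (rfl | rfl)
        · exact Subgroup.mem_centralizer_iff.2 (by intro m hm; rw [Set.mem_singleton_iff.1 hm]; exact hNa)
        · exact Subgroup.mem_centralizer_iff.2 (by intro m hm; rw [Set.mem_singleton_iff.1 hm]; exact hNb)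
      · intro k hk
        obtain ⟨c, rfl⟩ := isSc_iff_mem.2 hk
        exact Subgroup.mem_centralizer_iff.2 (by intro m hm; rw [Set.mem_singleton_iff.1 hm]; exact (scg_comm c N).symm)
    intro k hk
    exact Subgroup.mem_centralizer_iff.1 (h1 hk) N rfl
  obtain ⟨M, hM⟩ : ∃ M : GL (Fin 3) F, M = P⁻¹ * N * P := ⟨_, rfl⟩
  have hMk : ∀ k ∈ Hs 3 ζ' β, M * k = k * M := by
    intro k hk
    have h1 := hN _ (h k hk)
    rw [hM]
    calc P⁻¹ * N * P * k = P⁻¹ * (N * (P * k * P⁻¹)) * P := by group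
      _ = P⁻¹ * (P * k * P⁻¹ * N) * P := by rw [h1]
      _ = k * (P⁻¹ * N * P) := by group
  have h1 := congrArg Units.val (hMk _ (Dm_mem ζ' β))
  have h2 := congrArg Units.val (hMk _ (Bm_mem ζ' β))
  rw [Units.val_mul, Units.val_mul] at h1 h2
  have e1 : ∀ i j : Fin 3, i ≠ j → (M : Matrix (Fin 3) (Fin 3) F) i j = 0 := by
    intro i j hij
    have h3 := congrFun (congrFun h1 i) j
    rw [Dm_coe, Matrix.mul_diagonal, Matrix.diagonal_mul] at h3
    have h4 : ((ζ' ^ (j : ℕ) : Fˣ) : F) - ((ζ' ^ (i : ℕ) : Fˣ) : F) ≠ 0 := by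
      intro h5
      rw [sub_eq_zero, Units.val_inj] at h5
      have h6 : orderOf ζ' = 3 := orderOf_eq_prime hζ'3 hζ'
      have h7 := pow_injOn_Iio_orderOf (x := ζ') (by rw [h6]; exact j.2) (by rw [h6]; exact i.2) h5
      exact hij (Fin.ext h7.symm)
    have h5 : (M : Matrix (Fin 3) (Fin 3) F) i j * (((ζ' ^ (j : ℕ) : Fˣ) : F) - ((ζ' ^ (i : ℕ) : Fˣ) : F)) = 0 := by
      linear_combination h3
    exact (mul_eq_zero.1 h5).resolve_right h4
  have hMd : (M : Matrix (Fin 3) (Fin 3) F) = diagonal fun i => (M : Matrix (Fin 3) (Fin 3) F) i i := by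
    ext i j
    rw [diagonal_apply]
    split_ifs with hij
    · rw [hij]
    · exact e1 i j hij
  have e2 : ∀ j : Fin 3, (M : Matrix (Fin 3) (Fin 3) F) (j + 1) (j + 1) = (M : Matrix (Fin 3) (Fin 3) F) j j := by
    intro j
    have h3 := congrFun (congrFun h2 (j + 1)) j
    rw [hMd, Matrix.diagonal_mul, Matrix.mul_diagonal, Bm_apply, if_pos rfl] at h3
    have h4 : (if j + 1 = 0 then (β : F) else 1) ≠ 0 := by
      split_ifs
      · exact β.ne_zero
      · exact one_ne_zero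
    have h5 : ((M : Matrix (Fin 3) (Fin 3) F) (j + 1) (j + 1) - (M : Matrix (Fin 3) (Fin 3) F) j j) *
        (if j + 1 = 0 then (β : F) else 1) = 0 := by linear_combination h3
    exact sub_eq_zero.1 ((mul_eq_zero.1 h5).resolve_right h4)
  have hM0 : (M : Matrix (Fin 3) (Fin 3) F) = ((M : Matrix (Fin 3) (Fin 3) F) 0 0) • 1 := by
    rw [hMd, smul_one_eq_diagonal]
    congr 1
    funext i
    fin_cases i
    · rfl
    · exact e2 0
    · exact (e2 1).trans (e2 0)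
  have hMs : IsSc M := isSc_iff.2 ⟨(M : Matrix (Fin 3) (Fin 3) F) 0 0, by
    unfold en
    rw [hM0, map_smul, map_one]
    simp⟩
  obtain ⟨c, hc⟩ := hMs
  refine ⟨c, ?_⟩
  have h3 : N = P * M * P⁻¹ := by rw [hM]; group
  rw [h3, hc, ← scg_comm, mul_assoc, mul_inv_cancel, mul_one]

theorem one_eq_scg : (1 : GL (Fin 3) F) = scg 1 := by
  have := scg_pow (F := F) 1 0
  rw [pow_zero, pow_zero] at this
  exact this.symm

theorem scg_inj {c d : Fˣ} (h : (scg c : GL (Fin 3) F) = scg d) : c = d := by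
  have h1 := congrArg Units.val h
  rw [coe_scg, coe_scg] at h1
  have h2 := congrFun (congrFun h1 0) 0
  apply Units.ext
  simpa using h2

theorem wt_mul {a g k : GL (Fin 3) F} {s t : Fˣ} (h : a * g = scg s * (g * a)) (h' : a * k = scg t * (k * a)) :
    a * (g * k) = scg (s * t) * (g * k * a) := by
  calc a * (g * k) = a * g * k := by rw [mul_assoc]
    _ = scg s * (g * (a * k)) := by rw [h]; simp only [mul_assoc]
    _ = scg s * (g * scg t) * (k * a) := by rw [h']; simp only [mul_assoc]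
    _ = scg s * (scg t * g) * (k * a) := by rw [scg_comm t g]
    _ = (scg s * scg t) * (g * k * a) := by simp only [mul_assoc]
    _ = _ := by rw [← scg_mul]

theorem wt_pow {a g : GL (Fin 3) F} {s : Fˣ} (h : a * g = scg s * (g * a)) (n : ℕ) :
    a * g ^ n = scg (s ^ n) * (g ^ n * a) := by
  induction n with
  | zero => rw [pow_zero, pow_zero, one_mul, mul_one, ← one_eq_scg, one_mul]
  | succ n ih => rw [pow_succ, pow_succ]; exact wt_mul ih h

theorem wt_one {a g : GL (Fin 3) F} (h : a * g = g * a) : a * g = scg 1 * (g * a) := by rw [← one_eq_scg, one_mul, h]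

theorem comm_of_wt {a g : GL (Fin 3) F} {s : Fˣ} (h : a * g = scg s * (g * a)) (hs : s = 1) : g * a = a * g := by
  rw [h, hs, ← one_eq_scg, one_mul]

/-- moving powers: `a g = scg ζ g a` -/
theorem heis_pow {a g : GL (Fin 3) F} {ζ : Fˣ} (h : a * g = scg ζ * (g * a)) (n : ℕ) :
    a ^ n * g = scg (ζ ^ n) * (g * a ^ n) := by
  induction n with
  | zero => rw [pow_zero, pow_zero, one_mul, mul_one, ← one_eq_scg, one_mul]
  | succ n ih =>
    calc a ^ (n + 1) * g = a * (a ^ n * g) := by rw [pow_succ', mul_assoc]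
      _ = a * (scg (ζ ^ n) * (g * a ^ n)) := by rw [ih]
      _ = (a * scg (ζ ^ n)) * (g * a ^ n) := by rw [mul_assoc]
      _ = (scg (ζ ^ n) * a) * (g * a ^ n) := by rw [scg_comm (ζ ^ n) a]
      _ = scg (ζ ^ n) * ((a * g) * a ^ n) := by simp only [mul_assoc]
      _ = scg (ζ ^ n) * ((scg ζ * (g * a)) * a ^ n) := by rw [h]
      _ = (scg (ζ ^ n) * scg ζ) * (g * (a * a ^ n)) := by simp only [mul_assoc]
      _ = scg (ζ ^ (n + 1)) * (g * a ^ (n + 1)) := by rw [← scg_mul, ← pow_succ, ← pow_succ']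

/-- `a h = scg σ h a`, `a ^ 3` scalar: `σ ^ 3 = 1` -/
theorem cube_of_comm {a g : GL (Fin 3) F} {ζ : Fˣ} (h : a * g = scg ζ * (g * a)) (ha : IsSc (a ^ 3)) : ζ ^ 3 = 1 := by
  obtain ⟨c, hc⟩ := ha
  have h1 := heis_pow h 3
  rw [hc, scg_comm, scg_comm (ζ ^ 3)] at h1
  have h3 : scg (ζ ^ 3) = (1 : GL (Fin 3) F) := mul_eq_left.1 h1.symm
  rw [one_eq_scg] at h3
  exact scg_inj h3

/-- an element commuting with a Heisenberg pair modulo scalars is a word modulo scalars -/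
theorem heis_word [Fintype F] {a b : GL (Fin 3) F} {ζ : Fˣ} (hζ1 : ζ ≠ 1) (hab : a * b = scg ζ * (b * a))
    (ha : IsSc (a ^ 3)) (hb : IsSc (b ^ 3)) {N : GL (Fin 3) F} {s t : Fˣ} (hNa : a * N = scg s * (N * a))
    (hNb : b * N = scg t * (N * b)) : ∃ i j : ℕ, IsSc (N * (a ^ i * b ^ j)) := by
  have hζ3 : ζ ^ 3 = 1 := cube_of_comm hab ha
  have hpow : ∀ s : Fˣ, s ^ 3 = 1 → ∃ k : ℕ, s = ζ ^ k := by
    intro s hs
    have h1 : orderOf ζ = 3 := orderOf_eq_prime hζ3 hζ1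
    have h2 : IsPrimitiveRoot ζ 3 := by rw [← h1]; exact IsPrimitiveRoot.orderOf ζ
    have h3 : IsPrimitiveRoot (ζ : F) 3 := h2.map_of_injective (f := Units.coeHom F) Units.val_injective
    obtain ⟨k, -, hk⟩ := h3.eq_pow_of_pow_eq_one (ξ := (s : F)) (by rw [← Units.val_pow_eq_pow_val, hs, Units.val_one])
    exact ⟨k, Units.ext (by rw [← hk, Units.val_pow_eq_pow_val])⟩
  obtain ⟨k, rfl⟩ := hpow s (cube_of_comm hNa ha)
  obtain ⟨l, rfl⟩ := hpow t (cube_of_comm hNb hb)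
  -- conjugation of `a ^ i b ^ j`
  have hba : b * a = scg ζ⁻¹ * (a * b) := by
    rw [hab, ← mul_assoc, ← scg_mul, inv_mul_cancel, ← one_eq_scg, one_mul]
  refine ⟨l, 2 * k, isSc_of_comm hζ1 hab ha hb ?_ ?_⟩
  · refine comm_of_wt (wt_mul hNa (wt_mul (wt_pow (wt_one rfl) l) (wt_pow hab (2 * k)))) ?_
    rw [one_pow, one_mul, ← pow_add, show k + 2 * k = 3 * k by ring, pow_mul, hζ3, one_pow]
  · refine comm_of_wt (wt_mul hNb (wt_mul (wt_pow hba l) (wt_pow (wt_one rfl) (2 * k)))) ?_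
    rw [one_pow, mul_one, inv_pow, mul_inv_cancel]

open scoped commutatorElement in
/-- commutators of multiples -/
theorem comm_scg (c d : Fˣ) (x y : GL (Fin 3) F) : ⁅scg c * x, scg d * y⁆ = ⁅x, y⁆ := by
  rw [commutatorElement_def, commutatorElement_def, _root_.mul_inv_rev, _root_.mul_inv_rev, ← scg_inv, ← scg_inv]
  calc scg c * x * (scg d * y) * (x⁻¹ * scg c⁻¹) * (y⁻¹ * scg d⁻¹) =
        scg c * (x * scg d) * y * (x⁻¹ * scg c⁻¹) * (y⁻¹ * scg d⁻¹) := by simp only [mul_assoc]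
    _ = scg c * (scg d * x) * y * (scg c⁻¹ * x⁻¹) * (scg d⁻¹ * y⁻¹) := by
        rw [scg_comm d x, scg_comm c⁻¹ x⁻¹, scg_comm d⁻¹ y⁻¹]
    _ = scg c * scg d * (x * y * scg c⁻¹) * x⁻¹ * (scg d⁻¹ * y⁻¹) := by simp only [mul_assoc]
    _ = scg c * scg d * (scg c⁻¹ * (x * y)) * x⁻¹ * (scg d⁻¹ * y⁻¹) := by rw [scg_comm c⁻¹ (x * y)]
    _ = scg c * scg d * scg c⁻¹ * ((x * y * x⁻¹) * scg d⁻¹) * y⁻¹ := by simp only [mul_assoc]
    _ = scg c * scg d * scg c⁻¹ * (scg d⁻¹ * (x * y * x⁻¹)) * y⁻¹ := by rw [scg_comm d⁻¹ (x * y * x⁻¹)]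
    _ = (scg c * scg d * scg c⁻¹ * scg d⁻¹) * (x * y * x⁻¹ * y⁻¹) := by simp only [mul_assoc]
    _ = x * y * x⁻¹ * y⁻¹ := by
        rw [← scg_mul, ← scg_mul, ← scg_mul, mul_comm c d, mul_inv_cancel_right, mul_inv_cancel, ← one_eq_scg,
          one_mul]

end heis

end Cfsg.Agent.H314.G3
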