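import Cfsg.Agent.H314.G3.Heis
import Cfsg.Agent.H321.Ker.Row
import Cfsg.Agent.H818.Gen.Defs

/-!
# S2187, TRI-3: linear elementary abelian `3`-groups of automorphisms of `SL_3(F)` (helper314)
-/

set_option autoImplicit false
set_option linter.unusedSectionVars false

namespace Cfsg.Agent.H314.G3

open Matrix Cfsg Cfsg.Agent.CpAut.Psl Cfsg.Agent.H818.Gen
open Cfsg.Agent.ClassicalGeometry.AutPSL.Root
open Cfsg.Agent.ClassicalGeometry.AutPSL.Auto
open Cfsg.Agent.ClassicalGeometry.AutPSL.Main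
open Cfsg.Agent.ClassicalGeometry.AutPSL.FieldAut

section

variable {F : Type} [Field F]

theorem cj_eq_one_iff {g : GL (Fin 3) F} : (cj g : MulAut (SpecialLinearGroup (Fin 3) F)) = 1 ↔ IsSc g := by
  constructor
  · intro h
    obtain ⟨⟨r, hr⟩, -⟩ := injective_aux (C := g) (σ := 1) (τ := 1) (by rw [h, one_mul])
    exact isSc_iff.2 ⟨r, by
      unfold en
      rw [← hr, Matrix.scalar_apply, ← Matrix.smul_one_eq_diagonal, map_smul, map_one]⟩
  · rintro ⟨c, rfl⟩
    exact cj_scg c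

/-- commuting modulo scalars -/
theorem comm_of_cj {g h : GL (Fin 3) F} (e : (cj g * cj h : MulAut (SpecialLinearGroup (Fin 3) F)) = cj h * cj g) :
    ∃ s : Fˣ, g * h = scg s * (h * g) := by
  have h1 : (cj (g * h * (h * g)⁻¹) : MulAut (SpecialLinearGroup (Fin 3) F)) = 1 := by
    rw [map_mul, map_inv, map_mul, map_mul, e, mul_inv_cancel]
  obtain ⟨s, hs⟩ := cj_eq_one_iff.1 h1
  exact ⟨s, by rw [← hs, inv_mul_cancel_right]⟩

theorem cube_of_cj {g : GL (Fin 3) F} (e : (cj g : MulAut (SpecialLinearGroup (Fin 3) F)) ^ 3 = 1) : IsSc (g ^ 3) :=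
  cj_eq_one_iff.1 (by rw [map_pow, e])

/-- the root group in the frame of `P` -/
def rtg (P : GL (Fin 3) F) {i j : Fin 3} (hij : i ≠ j) : Multiplicative F →* SpecialLinearGroup (Fin 3) F :=
  (cj P : MulAut (SpecialLinearGroup (Fin 3) F)).toMonoidHom.comp
    { toFun := fun t => SpecialLinearGroup.transvection hij t.toAdd
      map_one' := SpecialLinearGroup.transvection_coeff_zero hij
      map_mul' := fun a b => SpecialLinearGroup.transvection_add hij a.toAdd b.toAdd }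

theorem rtg_apply (P : GL (Fin 3) F) {i j : Fin 3} (hij : i ≠ j) (t : F) :
    rtg P hij (Multiplicative.ofAdd t) = cj P (SpecialLinearGroup.transvection hij t) := rfl

/-- diagonal automorphisms preserve the root groups -/
theorem cj_rtg {P h : GL (Fin 3) F} {d : Fin 3 → F} (hd : ((P⁻¹ * h * P : GL (Fin 3) F) : Matrix (Fin 3) (Fin 3) F) = diagonal d)
    {i j : Fin 3} (hij : i ≠ j) {g : SpecialLinearGroup (Fin 3) F} (hg : g ∈ (rtg P hij).range) :
    cj h g ∈ (rtg P hij).range := by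
  have hd0 : ∀ i, d i ≠ 0 := by
    have h1 : IsUnit (diagonal d).det := by
      rw [← hd]
      exact (Matrix.isUnit_iff_isUnit_det _).1 (P⁻¹ * h * P : GL (Fin 3) F).isUnit
    rw [det_diagonal] at h1
    intro i hi
    apply h1.ne_zero
    exact Finset.prod_eq_zero (Finset.mem_univ i) hi
  obtain ⟨t, rfl⟩ := hg
  have h1 : P⁻¹ * h * P = dg d hd0 := Units.ext hd
  have h2 : h = P * dg d hd0 * P⁻¹ := by rw [← h1]; group
  refine ⟨Multiplicative.ofAdd (d i * t.toAdd * (d j)⁻¹), ?_⟩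
  rw [rtg_apply, ← cj_dg d hd0 hij]
  show cj P (cj (dg d hd0) (SpecialLinearGroup.transvection hij t.toAdd)) =
    cj h (cj P (SpecialLinearGroup.transvection hij t.toAdd))
  rw [← MulAut.mul_apply, ← MulAut.mul_apply, ← map_mul, ← map_mul, h2, inv_mul_cancel_right]

/-- the root groups generate -/
theorem rtg_top {P : GL (Fin 3) F} {M : Subgroup (SpecialLinearGroup (Fin 3) F)}
    (h : ∀ (i j : Fin 3) (hij : i ≠ j), (rtg P hij).range ≤ M) : M = ⊤ := by
  rw [eq_top_iff]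
  intro g _
  have key : ∀ x : SpecialLinearGroup (Fin 3) F, cj P x ∈ M := by
    intro x
    refine Cfsg.Agent.LieClassical.SLGen.transvection_induction (fun x => cj P x ∈ M) (fun i j hij c => ?_)
      (fun A B hA hB => ?_) x
    · exact h i j hij ⟨Multiplicative.ofAdd c, rfl⟩
    · show cj P (A * B) ∈ M
      rw [map_mul]
      exact M.mul_mem hA hB
  have h1 := key ((cj P)⁻¹ g)
  rwa [MulAut.apply_inv_self] at h1

theorem cj_fix {f : GL (Fin 3) F} {g : SpecialLinearGroup (Fin 3) F}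
    (h : (Matrix.SpecialLinearGroup.toGL g : GL (Fin 3) F) * f = f * Matrix.SpecialLinearGroup.toGL g) : cj f g = g := by
  apply Subtype.ext
  rw [coe_cj]
  have h1 := congrArg Units.val h
  rw [Units.val_mul, Units.val_mul] at h1
  have h2 : (g : Matrix (Fin 3) (Fin 3) F) * (f : Matrix (Fin 3) (Fin 3) F) = f * g := h1
  rw [← h2, mul_assoc, ← Units.val_mul, mul_inv_cancel, Units.val_one, mul_one]

end

section fin

variable {F : Type} [Field F] [Fintype F] {r : ℕ} [CharP F r]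

/-- **linear case** -/
theorem lin_top (hr : r.Prime) (hr5 : 5 ≤ r) {E : Subgroup (MulAut (SpecialLinearGroup (Fin 3) F))}
    (hE : IsElementaryAbelian 3 E) (hc : 3 ^ 2 ≤ Nat.card E)
    (hlin : E ≤ (cj : GL (Fin 3) F →* MulAut (SpecialLinearGroup (Fin 3) F)).range) : Gam 3 E = ⊤ := by
  have h3f : Fact (Nat.Prime 3) := ⟨Nat.prime_three⟩
  have hn0 : ∀ m : ℕ, m < 5 → 0 < m → (m : F) ≠ 0 := by
    intro m hm hm0 h
    have := Nat.le_of_dvd hm0 ((CharP.cast_eq_zero_iff F r m).1 h)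
    omega
  have h2 : (2 : F) ≠ 0 := by exact_mod_cast hn0 2 (by norm_num) (by norm_num)
  have h3 : (3 : F) ≠ 0 := by exact_mod_cast hn0 3 (by norm_num) (by norm_num)
  have hcomm : ∀ a ∈ E, ∀ b ∈ E, a * b = b * a := fun a ha b hb =>
    congrArg (fun z : ↥E => (z : MulAut (SpecialLinearGroup (Fin 3) F))) (hE.1.1.1 ⟨a, ha⟩ ⟨b, hb⟩)
  by_cases hab : ∀ a b : GL (Fin 3) F, cj a ∈ E → cj b ∈ E → a * b = b * a
  · obtain ⟨x, hx, y, hy, hxy⟩ := exists_pair hE hc
    obtain ⟨a, rfl⟩ := hlin hx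
    obtain ⟨b, rfl⟩ := hlin hy
    obtain ⟨P, u, v, ω, ω', -, hω1, -, hω'1, ⟨i, j, c, hu⟩, ⟨i', j', c', hv⟩, hPu, hPv⟩ :=
      exists_eig h2 h3 (hab a b hx hy) (cube_of_cj (hE.2 _ hx)) (cube_of_cj (hE.2 _ hy)) (fun i j h => hxy i j (by
        rw [← map_pow, ← map_pow, ← map_mul]
        exact cj_eq_one_iff.2 h))
    have hw : ∀ (i j : ℕ) (c : Fˣ), (cj (scg c * (a ^ i * b ^ j)) : MulAut (SpecialLinearGroup (Fin 3) F)) ∈ E := by
      intro i j c
      rw [map_mul, cj_scg, one_mul, map_mul, map_pow, map_pow]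
      exact E.mul_mem (E.pow_mem hx _) (E.pow_mem hy _)
    refine rtg_top (P := P) fun k l hkl => le_Gam_of_coprime hE hc ?_ ?_
    · intro hd
      have h5 : Nat.card (rtg P hkl).range ∣ Nat.card (Multiplicative F) := Subgroup.card_range_dvd _
      have h6 : Nat.card (Multiplicative F) = Fintype.card F := by
        rw [Nat.card_congr (Multiplicative.toAdd (α := F)), Nat.card_eq_fintype_card]
      obtain ⟨n, -, hn⟩ := FiniteField.card F r
      rw [h6, hn] at h5
      have h7 := (Nat.prime_three).dvd_of_dvd_pow (hd.trans h5)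
      have h8 := (Nat.prime_dvd_prime_iff_eq Nat.prime_three hr).1 h7
      omega
    · intro φ hφ g hg
      obtain ⟨h, rfl⟩ := hlin hφ
      have hcu : ∀ w : GL (Fin 3) F, cj w ∈ E → h * w = w * h := fun w hw => hab h w hφ hw
      have e1 := hcu u (by rw [hu]; exact hw _ _ _)
      have e2 := hcu v (by rw [hv]; exact hw _ _ _)
      have k1 : ∀ w : GL (Fin 3) F, h * w = w * h → (P⁻¹ * h * P) * (P⁻¹ * w * P) = (P⁻¹ * w * P) * (P⁻¹ * h * P) := by
        intro w hw
        calc (P⁻¹ * h * P) * (P⁻¹ * w * P) = P⁻¹ * (h * w) * P := by group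
          _ = P⁻¹ * (w * h) * P := by rw [hw]
          _ = _ := by group
      have k2 : ((P⁻¹ * h * P : GL (Fin 3) F) : Matrix (Fin 3) (Fin 3) F) * ((P⁻¹ * u * P : GL (Fin 3) F)) =
        ((P⁻¹ * u * P : GL (Fin 3) F) : Matrix (Fin 3) (Fin 3) F) * ((P⁻¹ * h * P : GL (Fin 3) F)) :=
          congrArg Units.val (k1 u e1)
      have k3 : ((P⁻¹ * h * P : GL (Fin 3) F) : Matrix (Fin 3) (Fin 3) F) * ((P⁻¹ * v * P : GL (Fin 3) F)) =
        ((P⁻¹ * v * P : GL (Fin 3) F) : Matrix (Fin 3) (Fin 3) F) * ((P⁻¹ * h * P : GL (Fin 3) F)) :=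
          congrArg Units.val (k1 v e2)
      rw [hPu] at k2
      rw [hPv] at k3
      exact cj_rtg (diag_of_comm hω1 hω'1 k2 k3) hkl hg
  · push Not at hab
    obtain ⟨a, b, ha, hb, hne⟩ := hab
    obtain ⟨ζ, hζ⟩ := comm_of_cj (hcomm _ ha _ hb)
    have hζ1 : ζ ≠ 1 := by
      rintro rfl
      exact hne (comm_of_wt hζ rfl).symm
    have ha3 := cube_of_cj (hE.2 _ ha)
    have hb3 := cube_of_cj (hE.2 _ hb)
    have hE9 : Nat.card E = 3 ^ 2 := by
      refine card_eq_nine hE hc ha hb fun φ hφ => ?_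
      obtain ⟨N, rfl⟩ := hlin hφ
      obtain ⟨s, hs⟩ := comm_of_cj (hcomm _ ha _ hφ)
      obtain ⟨t, ht⟩ := comm_of_cj (hcomm _ hb _ hφ)
      obtain ⟨i, j, hij⟩ := heis_word hζ1 hζ ha3 hb3 hs ht
      have h5 := cj_eq_one_iff.2 hij
      rw [map_mul, map_mul, map_pow, map_pow] at h5
      refine ⟨i + i, j + j, ?_⟩
      have h6 : (cj a ^ i) * (cj a ^ (i + i)) = (1 : MulAut (SpecialLinearGroup (Fin 3) F)) := by
        rw [← pow_add, show i + (i + i) = 3 * i by ring, pow_mul, hE.2 _ ha, one_pow]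
      have h7 : (cj b ^ j) * (cj b ^ (j + j)) = (1 : MulAut (SpecialLinearGroup (Fin 3) F)) := by
        rw [← pow_add, show j + (j + j) = 3 * j by ring, pow_mul, hE.2 _ hb, one_pow]
      have h8 : (cj a ^ i * cj b ^ j) * (cj a ^ (i + i) * cj b ^ (j + j)) = (1 : MulAut (SpecialLinearGroup (Fin 3) F)) := by
        have h9 : cj b ^ j * cj a ^ (i + i) = cj a ^ (i + i) * (cj b : MulAut (SpecialLinearGroup (Fin 3) F)) ^ j :=
          hcomm _ (E.pow_mem hb _) _ (E.pow_mem ha _)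
        calc (cj a ^ i * cj b ^ j) * (cj a ^ (i + i) * cj b ^ (j + j)) =
              cj a ^ i * (cj b ^ j * cj a ^ (i + i)) * cj b ^ (j + j) := by simp only [mul_assoc]
          _ = (cj a ^ i * cj a ^ (i + i)) * (cj b ^ j * cj b ^ (j + j)) := by rw [h9]; simp only [mul_assoc]
          _ = 1 := by rw [h6, h7, one_mul]
      calc (cj N : MulAut (SpecialLinearGroup (Fin 3) F)) =
            cj N * ((cj a ^ i * cj b ^ j) * (cj a ^ (i + i) * cj b ^ (j + j))) := by rw [h8, mul_one]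
        _ = (cj N * (cj a ^ i * cj b ^ j)) * (cj a ^ (i + i) * cj b ^ (j + j)) := by simp only [mul_assoc]
        _ = _ := by rw [h5, one_mul]
    have hgen := Cfsg.Agent.H321.Ker.gen_SL (p := 3) (by norm_num) (F := F) (Or.inr h2) (H := E.comap cj) ha hb hζ1
      (by rw [← Units.val_mul, hζ, coe_scg_mul, Units.val_mul]) (isSc_iff_mem.1 ha3) (isSc_iff_mem.1 hb3)
    have hle : Cfsg.Agent.H321.Ker.Mc (Cfsg.Geo.specialLinear (Fin 3) F) (E.comap cj) ≤
        (Gam 3 E).map (Matrix.SpecialLinearGroup.toGL : SpecialLinearGroup (Fin 3) F →* GL (Fin 3) F) := by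
      refine (Subgroup.closure_le _).2 ?_
      rintro g ⟨hg, f, hf, hs, hgf⟩
      rw [Cfsg.Agent.H321.Ker.mem_SL_iff] at hg
      obtain ⟨g', hg'⟩ : ∃ g' : SpecialLinearGroup (Fin 3) F, Matrix.SpecialLinearGroup.toGL g' = g :=
        ⟨⟨g, hg⟩, Units.ext rfl⟩
      rw [← hg'] at hgf
      refine ⟨g', ?_, hg'⟩
      refine mem_Gam_of_fixed hE hE9 (e := cj f) hf (fun h => hs (isSc_iff_mem.1 (cj_eq_one_iff.1 h))) (cj_fix hgf)
    rw [hgen] at hle
    rw [eq_top_iff]
    intro g _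
    obtain ⟨g', hg', hgg⟩ := hle (show Matrix.SpecialLinearGroup.toGL g ∈ Cfsg.Geo.specialLinear (Fin 3) F from
      Cfsg.Agent.H321.Ker.mem_SL_iff.2 g.2)
    have : g' = g := by
      apply Subtype.ext
      exact congrArg Units.val hgg
    rwa [← this]

end fin

end Cfsg.Agent.H314.G3
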