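import Cfsg.Agent.H314.G3.Abs
import Cfsg.Agent.H895.SLT.RowFour

/-!
# S2187, TRI-3: subgroups containing the fixed points of a field automorphism (helper314)

* `ovg_of` : the abstract argument (a group `M ≥ L` whose commutators lie in a conjugate of the perfect group `L`
  normalises `L`);
* `exists_maximalIn` : maximal subgroups above a proper subgroup;
* `row_four'` : the maximal subgroups of `SL_3(F)` above `SL_3(F₀)`.
-/

set_option autoImplicit false
set_option linter.unusedSectionVars false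
set_option linter.unnecessarySimpa false

namespace Cfsg.Agent.H314.G3

open Cfsg Subgroup

section abs

open scoped commutatorElement

theorem ovg_of {G : Type*} [Group G] [Finite G] {σ : MulAut G} (hperf : commutator ↥(fx σ) = ⊤)
    (hcen : ∀ z, (∀ l ∈ fx σ, z * l = l * z) → z ∈ center G) {M : Subgroup G} (hM : fx σ ≤ M) (f : MulAut G)
    (h : ∀ g ∈ M, ∀ k ∈ M, ⁅g, k⁆ ∈ (fx σ).map f.toMonoidHom) : ∀ g ∈ M, g⁻¹ * σ g ∈ center G := by
  have h1 : fx σ ≤ ⁅M, M⁆ := by
    have h2 : ⁅fx σ, fx σ⁆ = fx σ := by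
      have h3 : (commutator ↥(fx σ)).map (fx σ).subtype = ⁅fx σ, fx σ⁆ := by
        rw [commutator_def, map_commutator, ← MonoidHom.range_eq_map, range_subtype]
      rw [← h3, hperf, ← MonoidHom.range_eq_map, range_subtype]
    rw [← h2]
    exact commutator_mono hM hM
  have h2 : ⁅M, M⁆ ≤ (fx σ).map f.toMonoidHom := commutator_le.2 h
  have h3 : Nat.card ↥((fx σ).map f.toMonoidHom) = Nat.card ↥(fx σ) :=
    Nat.card_congr ((fx σ).equivMapOfInjective f.toMonoidHom f.injective).toEquiv.symm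
  have h4 : ⁅M, M⁆ = fx σ := by
    refine (eq_of_le_of_card_ge h1 ?_).symm
    rw [← h3]
    exact card_le_of_le h2
  intro g hg
  apply hcen
  intro l hl
  have h5 : g * l * g⁻¹ ∈ fx σ := by
    have h6 : ⁅g, l⁆ ∈ fx σ := by
      rw [← h4]
      exact commutator_mem_commutator hg (hM hl)
    have h7 : g * l * g⁻¹ = ⁅g, l⁆ * l := by rw [commutatorElement_def]; group
    rw [h7]
    exact (fx σ).mul_mem h6 hl
  have h6 : σ (g * l * g⁻¹) = g * l * g⁻¹ := h5
  have hl' : σ l = l := hl
  rw [map_mul, map_mul, map_inv, hl'] at h6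
  -- `σ g l σ g⁻¹ = g l g⁻¹`
  have h7 : g⁻¹ * (σ g * l * (σ g)⁻¹) * σ g = g⁻¹ * (g * l * g⁻¹) * σ g := by rw [h6]
  calc g⁻¹ * σ g * l = g⁻¹ * (σ g * l * (σ g)⁻¹) * σ g := by group
    _ = g⁻¹ * (g * l * g⁻¹) * σ g := h7
    _ = l * (g⁻¹ * σ g) := by group

theorem exists_maximalIn {X : Type*} [Group X] [Finite X] {K M : Subgroup X} (h : M < K) :
    ∃ M' : Subgroup X, M ≤ M' ∧ Cfsg.Geo.IsMaximalIn K M' := by
  obtain ⟨M', ⟨h1, h2⟩, h3⟩ := Set.Finite.exists_maximalFor (fun M' : Subgroup X => Nat.card M')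
    {M' : Subgroup X | M ≤ M' ∧ M' < K} (Set.toFinite _) ⟨M, le_rfl, h⟩
  refine ⟨M', h1, h2, fun N hN hNK => ?_⟩
  rcases eq_or_lt_of_le hNK with h4 | h4
  · exact Or.inr h4
  · left
    have h5 := h3 (j := N) ⟨h1.trans hN, h4⟩ (card_le_of_le hN)
    exact (eq_of_le_of_card_ge hN h5).symm

end abs

section four

open Cfsg.Agent.H895.SLT Cfsg.Geo
open scoped MatrixGroups Matrix
open Cfsg.Agent.H908 (cj mem_cj)
open Cfsg.Agent

variable {F : Type*} [Field F]

/-- adapted from `row_four` (helper895) -/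
theorem row_four' [Fintype F] {F₀ : Subfield F} {r : ℕ} (hr : r.Prime) (hcard : Fintype.card F = Nat.card F₀ ^ r)
    {M : Subgroup (GL (Fin 3) F)} (hM : IsMaximalIn (S3 F) M)
    (hmem : ∀ g : GL (Fin 3) F, (∀ i j, (g : Matrix (Fin 3) (Fin 3) F) i j ∈ F₀) → g ∈ S3 F → g ∈ M) :
    ∃ P' : GL (Fin 3) F, M = subfieldSubgroup F₀ P' ⊓ S3 F := by
  classical
  have hfin : Finite (GL (Fin 3) F) := inferInstance
  have hf0 : Finite F₀ := inferInstance
  have hc0 : 1 < Nat.card F₀ := Finite.one_lt_card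
  obtain ⟨p, n, hchar, hp, hn, hpn⟩ : ∃ p n : ℕ, CharP F p ∧ p.Prime ∧ 0 < n ∧ Fintype.card F = p ^ n := by
    obtain ⟨p, hc, n, hp, h⟩ := FiniteField.card' F
    exact ⟨p, n, hc, hp, n.pos, h⟩
  have hpf : Fact p.Prime := ⟨hp⟩
  have hcg : ∀ a ∈ F₀, ∀ b ∈ F₀, cg a b ∈ M := by
    intro a ha b hb
    apply hmem _ _ (cg_mem a b)
    intro i j
    show cmat a b i j ∈ F₀
    have h1 := F₀.one_mem
    have h0 := F₀.zero_mem
    have hb' := F₀.neg_mem hb
    fin_cases i <;> fin_cases j <;> simpa [cmat]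
  have hng : (ng : GL (Fin 3) F) ∈ M := by
    apply hmem _ _ ng_mem
    intro i j
    show nmat i j ∈ F₀
    have h1 := F₀.one_mem
    have h0 := F₀.zero_mem
    have hb' := F₀.neg_mem h1
    fin_cases i <;> fin_cases j <;> simpa [nmat]
  have hug : ∀ a ∈ F₀, ∀ b ∈ F₀, ug a b ∈ M := by
    intro a ha b hb
    apply hmem _ _ (ug_mem a b)
    intro i j
    show umat a b i j ∈ F₀
    have h1 := F₀.one_mem
    have h0 := F₀.zero_mem
    fin_cases i <;> fin_cases j <;> simpa [umat]
  have htv : ∀ i j : Fin 3, ∀ h : i ≠ j, H905.tv h (1 : F) ∈ M := by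
    intro i j h
    apply hmem _ _ (H905.tv_mem h 1)
    intro k l
    rw [H905.tv_val, Matrix.add_apply, Matrix.one_apply, Matrix.single_apply]
    refine F₀.add_mem ?_ ?_
    · split_ifs
      · exact F₀.one_mem
      · exact F₀.zero_mem
    · split_ifs
      · exact F₀.one_mem
      · exact F₀.zero_mem
  rcases S5775.result M hM with ⟨W, h0, h1, rfl⟩ | ⟨-, D, hD, rfl⟩ | ⟨-, K, hK, rfl⟩ | ⟨F₁, s, P', hs, hcard', rfl⟩ |
    ⟨p', R', hp', hF', hp3', hR', rfl⟩ | ⟨-, Q', hQ', rfl⟩ | ⟨σ, f, hf, rfl⟩ | hres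
  · exact absurd (irr_excl (trans_irr htv) h0 h1 inf_le_left) id
  · exfalso
    have h6 := decomp_unip hD p (A := (uhom F₀).range) (by
      rintro _ ⟨x, rfl⟩
      exact (hug _ x.toAdd.1.2 _ x.toAdd.2.2).1) (by
      rintro _ ⟨x, rfl⟩
      refine ⟨1, ?_⟩
      show ug (x.toAdd.1 : F) (x.toAdd.2 : F) ^ p ^ 1 = 1
      rw [pow_one, ug_pow, CharP.cast_eq_zero, zero_mul, zero_mul, ug_zero])
    rw [uhom_card] at h6
    have h7 := Nat.le_of_dvd (by norm_num) h6
    have h8 : Nat.card F₀ = 2 := by nlinarith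
    rw [h8] at h6
    norm_num at h6
  · exact absurd (ng_ne (no_involution hK hng.1 ng_mem ng_sq)) id
  · have hle' : F₀ ≤ F₁ := by
      intro a ha
      obtain ⟨h1, -, -⟩ := subfield_traces (hcg a ha 1 F₀.one_mem).1 (cg_mem a 1)
      rwa [tr_cg, tr_cg_inv, mul_one] at h1
    have heq := subfield_eq hr hs hcard hcard' hle'
    subst heq
    exact ⟨P', rfl⟩
  · exact absurd (not_prime_pow hp' hr (by rw [← hF', hcard])) id
  · exact absurd (cg_not_sim (Sesq.of_quad hQ') (quad_le_sim (hcg 0 F₀.zero_mem 1 F₀.one_mem).1)) id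
  · exact absurd (cg_not_sim (Sesq.of_unitary hf) (hcg 0 F₀.zero_mem 1 F₀.one_mem).1) id
  · exfalso
    obtain ⟨P', p', hcore, hp', hchar', h | ⟨⟨e⟩, h⟩⟩ := S5776.result M hM hres
    · obtain ⟨-, hFp, -, -⟩ := h
      exact not_prime_pow hp' hr (by rw [← hFp, hcard])
    · have hpp : p' = p := CharP.eq F hchar' hchar
      subst hpp
      have hdM := card_of_a hcore hM.1.le e
      have hpd : p' ∣ Nat.card M := by
        have h1 : orderOf (⟨ug 1 0, hug 1 F₀.one_mem 0 F₀.zero_mem⟩ : M) = p' := by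
          apply orderOf_eq_prime
          · apply Subtype.ext
            show ug (1 : F) 0 ^ p' = 1
            rw [ug_pow, CharP.cast_eq_zero, zero_mul, zero_mul, ug_zero]
          · intro h
            have h2 : ug (1 : F) 0 = 1 := congrArg Subtype.val h
            rw [← ug_zero] at h2
            exact one_ne_zero (ug_inj h2).1
        rw [← h1]
        exact orderOf_dvd_natCard _
      rcases h with ⟨h, -⟩ | ⟨-, h3, h5⟩
      · exact not_prime_pow hp' hr (by rw [← h, hcard])
      · have h1 : p' ∣ 2 ^ 5 * (3 ^ 3 * 5) := by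
          have := hpd.trans hdM
          norm_num at this ⊢
          exact this
        have h2 : p' = 2 := by
          rcases (Nat.Prime.dvd_mul hp').1 h1 with h | h
          · exact (Nat.prime_dvd_prime_iff_eq hp' Nat.prime_two).1 (hp'.dvd_of_dvd_pow h)
          · rcases (Nat.Prime.dvd_mul hp').1 h with h | h
            · exact absurd ((Nat.prime_dvd_prime_iff_eq hp' Nat.prime_three).1 (hp'.dvd_of_dvd_pow h)) h3
            · have := (Nat.prime_dvd_prime_iff_eq hp' Nat.prime_five).1 h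
              rw [this] at h5
              omega
        subst h2
        have h20 : (2 : F) = 0 := by exact_mod_cast CharP.cast_eq_zero F 2
        have h7 : 7 ∣ Nat.card M := by
          have : Fact (Nat.Prime 7) := ⟨by norm_num⟩
          have h1 : orderOf (⟨cg 0 1, hcg 0 F₀.zero_mem 1 F₀.one_mem⟩ : M) = 7 := by
            apply orderOf_eq_prime
            · exact Subtype.ext (cg_seven h20)
            · intro h
              exact cg_ne (0 : F) 1 (congrArg Subtype.val h)
          rw [← h1]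
          exact orderOf_dvd_natCard _
        have := h7.trans hdM
        norm_num at this

end four

end Cfsg.Agent.H314.G3
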