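import Cfsg.Agent.H314.G3.Lin
import Cfsg.Agent.H314.G3.Ovg
import Cfsg.Agent.CpAutU.Fixed

/-!
# S2187, TRI-3: field automorphisms of `SL_3(F)` (helper314)
-/

set_option autoImplicit false
set_option linter.unusedSectionVars false

namespace Cfsg.Agent.H314.G3

open Matrix Cfsg Cfsg.Agent.CpAut.Psl Cfsg.Agent.H818.Gen
open Cfsg.Agent.ClassicalGeometry.AutPSL.Root
open Cfsg.Agent.ClassicalGeometry.AutPSL.Auto
open Cfsg.Agent.ClassicalGeometry.AutPSL.Main
open scoped commutatorElement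

section

variable {F : Type} [Field F]

theorem toGL_mul_comm {z l : SpecialLinearGroup (Fin 3) F} : z * l = l * z ↔ cj (SpecialLinearGroup.toGL z) l = l := by
  have h1 : cj (SpecialLinearGroup.toGL z) l = z * l * z⁻¹ := by
    apply Subtype.ext
    rw [coe_cj, ← map_inv]
    rfl
  rw [h1]
  constructor
  · intro h
    rw [h, mul_inv_cancel_right]
  · intro h
    exact eq_mul_of_mul_inv_eq h

/-- a matrix centralising `SL_3(F₀)` is scalar -/
theorem isSc_of_fix {σ : F ≃+* F} {A : GL (Fin 3) F}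
    (h : ∀ g : SpecialLinearGroup (Fin 3) F, fld σ g = g → cj A g = g) : IsSc A := by
  have h2 : (A : Matrix (Fin 3) (Fin 3) F) ∈ Set.range (scalar (Fin 3)) := by
    apply mem_range_scalar_of_commute_single
    intro i j hij
    have h3 : cj A (SpecialLinearGroup.transvection hij 1) = SpecialLinearGroup.transvection hij 1 := by
      apply h
      rw [fld_transvection, map_one]
    have h4 := cj_transvection_eq (C := A) (hkl := hij) (t := 1) (congrArg _ h3)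
    exact h4.symm
  obtain ⟨r, hr⟩ := h2
  exact isSc_iff.2 ⟨r, by
    unfold en
    rw [← hr, Matrix.scalar_apply, ← Matrix.smul_one_eq_diagonal, map_smul, map_one]⟩

theorem center_of_fix {σ : F ≃+* F} {z : SpecialLinearGroup (Fin 3) F}
    (h : ∀ l ∈ fx (fld σ : MulAut (SpecialLinearGroup (Fin 3) F)), z * l = l * z) :
    z ∈ Subgroup.center (SpecialLinearGroup (Fin 3) F) := by
  have h1 : IsSc (SpecialLinearGroup.toGL z : GL (Fin 3) F) := isSc_of_fix (σ := σ) fun g hg =>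
    toGL_mul_comm.1 (h g hg)
  rw [Subgroup.mem_center_iff]
  intro g
  have h2 : (cj (SpecialLinearGroup.toGL z) : MulAut (SpecialLinearGroup (Fin 3) F)) = 1 := cj_eq_one_iff.2 h1
  exact (toGL_mul_comm.2 (by rw [h2]; rfl)).symm

/-- the isomorphism with `SL_3(F₀)` -/
noncomputable def eqFx (σ : F ≃+* F) :
    SpecialLinearGroup (Fin 3) ↥(fixf σ) ≃* ↥(fx (fld σ : MulAut (SpecialLinearGroup (Fin 3) F))) :=
  (MonoidHom.ofInjective (sett (Fin 3) σ).inj).trans (MulEquiv.subgroupCongr (by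
    ext g
    constructor
    · rintro ⟨h, rfl⟩
      exact (sett (Fin 3) σ).fix h
    · intro hg
      obtain ⟨h, hh⟩ := exists_emb (σ := σ) (g := g) hg
      exact ⟨h, hh⟩))

theorem perf_fx (σ : F ≃+* F) : commutator ↥(fx (fld σ : MulAut (SpecialLinearGroup (Fin 3) F))) = ⊤ :=
  perf_map (eqFx σ) (Cfsg.Agent.LieClassical.SLGen.commutator_eq_top (by rw [Fintype.card_fin]))

end

section fin

variable {F : Type} [Field F] [Fintype F]

open Cfsg.Agent.H895.SLT in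
theorem ovg_fld {σ : F ≃+* F} (hσ : orderOf σ = 3) {M : Subgroup (SpecialLinearGroup (Fin 3) F)}
    (hM : fx (fld σ : MulAut (SpecialLinearGroup (Fin 3) F)) ≤ M) :
    M = ⊤ ∨ ∀ g ∈ M, g⁻¹ * fld σ g ∈ Subgroup.center (SpecialLinearGroup (Fin 3) F) := by
  by_cases hne : M = ⊤
  · exact Or.inl hne
  right
  have hinj : Function.Injective (SpecialLinearGroup.toGL : SpecialLinearGroup (Fin 3) F →* GL (Fin 3) F) :=
    SpecialLinearGroup.toGL_injective
  have hlt : M.map (SpecialLinearGroup.toGL : SpecialLinearGroup (Fin 3) F →* GL (Fin 3) F) <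
      Cfsg.Geo.specialLinear (Fin 3) F := by
    refine lt_of_le_of_ne ?_ fun h => hne ?_
    · rintro _ ⟨g, -, rfl⟩
      exact Cfsg.Agent.H321.Ker.mem_SL_iff.2 g.2
    · rw [eq_top_iff]
      intro g _
      have h1 : SpecialLinearGroup.toGL g ∈ M.map (SpecialLinearGroup.toGL : SpecialLinearGroup (Fin 3) F →* GL (Fin 3) F) := by
        rw [h]
        exact Cfsg.Agent.H321.Ker.mem_SL_iff.2 g.2
      obtain ⟨g', hg', hgg⟩ := h1
      rwa [← hinj hgg]
  obtain ⟨M', hMM', hmax⟩ := exists_maximalIn hlt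
  have hcard : Fintype.card F = Nat.card ↥(fixf σ) ^ 3 := Cfsg.Agent.CpAutU.Fld.card_fixf hσ
  obtain ⟨P, hP⟩ := row_four' (F₀ := fixf σ) Nat.prime_three hcard hmax (fun g hg hgS => by
    apply hMM'
    have hdet : (g : Matrix (Fin 3) (Fin 3) F).det = 1 := Cfsg.Agent.H321.Ker.mem_SL_iff.1 hgS
    refine ⟨⟨(g : Matrix (Fin 3) (Fin 3) F), hdet⟩, hM ?_, Units.ext rfl⟩
    apply Subtype.ext
    ext i j
    exact (coe_fld_apply σ _ i j).trans (hg i j))
  refine ovg_of (perf_fx σ) (fun z hz => center_of_fix hz) hM (cj P) fun g hg k hk => ?_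
  have hsub : ∀ g ∈ M, ∃ (a : GL (Fin 3) ↥(fixf σ)) (c : Fˣ), SpecialLinearGroup.toGL g =
      scg c * (P * Matrix.GeneralLinearGroup.map ((fixf σ).subtype : ↥(fixf σ) →+* F) a * P⁻¹) := by
    intro g hg
    have h1 : SpecialLinearGroup.toGL g ∈ M' := hMM' ⟨g, hg, rfl⟩
    rw [hP] at h1
    obtain ⟨a, c, hc⟩ := mem_subfield h1.1
    refine ⟨a, c, Units.ext ?_⟩
    rw [Units.val_mul, coe_scg, smul_mul_assoc, one_mul]
    exact hc
  obtain ⟨a, c, ha⟩ := hsub g hg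
  obtain ⟨b, d, hb⟩ := hsub k hk
  obtain ⟨A, hA⟩ : ∃ A, A = Matrix.GeneralLinearGroup.map ((fixf σ).subtype : ↥(fixf σ) →+* F) a := ⟨_, rfl⟩
  obtain ⟨B, hB⟩ : ∃ B, B = Matrix.GeneralLinearGroup.map ((fixf σ).subtype : ↥(fixf σ) →+* F) b := ⟨_, rfl⟩
  rw [← hA] at ha
  rw [← hB] at hb
  -- the commutator
  have h1 : (SpecialLinearGroup.toGL ⁅g, k⁆ : GL (Fin 3) F) = P * ⁅A, B⁆ * P⁻¹ := by
    rw [map_commutatorElement, ha, hb]
    have key : ∀ x y : GL (Fin 3) F, ⁅scg c * x, scg d * y⁆ = ⁅x, y⁆ := by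
      intro x y
      rw [commutatorElement_def, commutatorElement_def, _root_.mul_inv_rev, _root_.mul_inv_rev, ← scg_inv, ← scg_inv]
      calc scg c * x * (scg d * y) * (x⁻¹ * scg c⁻¹) * (y⁻¹ * scg d⁻¹) =
            scg c * (x * scg d) * y * (x⁻¹ * scg c⁻¹) * (y⁻¹ * scg d⁻¹) := by simp only [mul_assoc]
        _ = scg c * (scg d * x) * y * (scg c⁻¹ * x⁻¹) * (scg d⁻¹ * y⁻¹) := by
            rw [scg_comm d x, scg_comm c⁻¹ x⁻¹, scg_comm d⁻¹ y⁻¹]
        _ = scg c * scg d * (x * y * scg c⁻¹) * x⁻¹ * (scg d⁻¹ * y⁻¹) := by simp only [mul_assoc]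
        _ = scg c * scg d * (scg c⁻¹ * (x * y)) * x⁻¹ * (scg d⁻¹ * y⁻¹) := by rw [scg_comm c⁻¹ (x * y)]
        _ = scg c * scg d * scg c⁻¹ * ((x * y * x⁻¹) * scg d⁻¹) * y⁻¹ := by simp only [mul_assoc]
        _ = scg c * scg d * scg c⁻¹ * (scg d⁻¹ * (x * y * x⁻¹)) * y⁻¹ := by rw [scg_comm d⁻¹ (x * y * x⁻¹)]
        _ = (scg c * scg d * scg c⁻¹ * scg d⁻¹) * (x * y * x⁻¹ * y⁻¹) := by simp only [mul_assoc]
        _ = x * y * x⁻¹ * y⁻¹ := by
            rw [← scg_mul, ← scg_mul, ← scg_mul, mul_comm c d, mul_inv_cancel_right, mul_inv_cancel, ← one_eq_scg,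
              one_mul]
    rw [key, commutatorElement_def, commutatorElement_def]
    group
  refine ⟨(cj P)⁻¹ ⁅g, k⁆, ?_, MulAut.apply_inv_self _ (cj P) ⁅g, k⁆⟩
  have h2 : ((((cj P)⁻¹ : MulAut (SpecialLinearGroup (Fin 3) F)) ⁅g, k⁆ : SpecialLinearGroup (Fin 3) F) :
      Matrix (Fin 3) (Fin 3) F) = ((⁅A, B⁆ : GL (Fin 3) F) : Matrix (Fin 3) (Fin 3) F) := by
    rw [← map_inv, coe_cj, inv_inv]
    have h3 : ((⁅g, k⁆ : SpecialLinearGroup (Fin 3) F) : Matrix (Fin 3) (Fin 3) F) =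
        ((P * ⁅A, B⁆ * P⁻¹ : GL (Fin 3) F) : Matrix (Fin 3) (Fin 3) F) := by rw [← h1]; rfl
    rw [h3, ← Units.val_mul, ← Units.val_mul]
    congr 1
    group
  apply Subtype.ext
  ext i j
  rw [coe_fld_apply, h2, hA, hB, ← map_commutatorElement]
  exact ((⁅a, b⁆ : GL (Fin 3) ↥(fixf σ)) i j).2

/-- **field automorphisms of `SL_3(F)`** -/
theorem dat_fld {σ : F ≃+* F} (hσ : orderOf σ = 3) (hgen : Gen 3 (SpecialLinearGroup (Fin 3) ↥(fixf σ))) :
    DatZ 3 (cj : GL (Fin 3) F →* MulAut (SpecialLinearGroup (Fin 3) F)).range (fld σ) where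
  gen := hgen.congr (eqFx σ)
  perf := perf_fx σ
  ovg M hM := ovg_fld hσ hM
  cen x hx h := by
    obtain ⟨A, rfl⟩ := hx
    exact cj_eq_one_iff.2 (isSc_of_fix (σ := σ) h)

/-- automorphisms of order three -/
theorem exists_cjfld {α : MulAut (SpecialLinearGroup (Fin 3) F)} (hα : α ^ 3 = 1) :
    ∃ (A : GL (Fin 3) F) (σ : F ≃+* F), α = cj A * fld σ := by
  obtain ⟨A, σ, h⟩ := exists_of_odd (n := 3) (by norm_num) (α := lift α) (ℓ := 3) ⟨1, rfl⟩ (by rw [← map_pow, hα, map_one])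
  refine ⟨A, σ, ?_⟩
  apply aut_eq_of_center (Cfsg.Agent.LieClassical.SLGen.commutator_eq_top (by rw [Fintype.card_fin]))
  intro g
  have h1 := congrArg (fun β => β (pr g)) h
  rw [lift_pr, lift_pr] at h1
  exact QuotientGroup.eq.1 h1

end fin

end Cfsg.Agent.H314.G3
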