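import Cfsg.Agent.H314.G3.LinField
import Cfsg.Agent.LieRecognition.FieldSemilinear

/-!
# S2187, TRI-3: `Gen 3 SL_3(F)` (helper314)
-/

set_option autoImplicit false
set_option linter.unusedSectionVars false

namespace Cfsg.Agent.H314.G3

open Matrix Cfsg Cfsg.Agent.CpAut.Psl Cfsg.Agent.H818.Gen
open Cfsg.Agent.ClassicalGeometry.AutPSL.Root
open Cfsg.Agent.ClassicalGeometry.AutPSL.Auto
open Cfsg.Agent.ClassicalGeometry.AutPSL.Main

/-- two elements of order dividing `3` of a cyclic group are dependent -/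
theorem exists_rel {C : Type*} [Group C] [Finite C] [IsCyclic C] {s t : C} (hs : s ^ 3 = 1) (ht : t ^ 3 = 1) :
    ∃ i j : ℕ, ¬ (3 ∣ i ∧ 3 ∣ j) ∧ s ^ i * t ^ j = 1 := by
  by_cases hs1 : s = 1
  · exact ⟨1, 0, by norm_num, by rw [hs1, one_pow, pow_zero, one_mul]⟩
  obtain ⟨g, hg⟩ := IsCyclic.exists_generator (α := C)
  obtain ⟨m, hm⟩ := (mem_powers_iff_mem_zpowers.2 (hg s) : s ∈ Submonoid.powers g)
  obtain ⟨n, hn⟩ := (mem_powers_iff_mem_zpowers.2 (hg t) : t ∈ Submonoid.powers g)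
  have hm' : g ^ m = s := hm
  have hn' : g ^ n = t := hn
  have h1 : orderOf g ∣ m * 3 := orderOf_dvd_of_pow_eq_one (by rw [pow_mul, hm', hs])
  have h2 : orderOf g ∣ n * 3 := orderOf_dvd_of_pow_eq_one (by rw [pow_mul, hn', ht])
  have h3 : 3 ∣ orderOf g := by
    by_contra h3
    have h4 : Nat.Coprime (orderOf g) 3 := ((Nat.Prime.coprime_iff_not_dvd Nat.prime_three).2 h3).symm
    have h5 := h4.dvd_of_dvd_mul_right h1
    exact hs1 (by rw [← hm']; exact orderOf_dvd_iff_pow_eq_one.1 h5)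
  obtain ⟨N, hN⟩ := h3
  rw [hN, mul_comm] at h1 h2
  have h4 : N ∣ m := Nat.dvd_of_mul_dvd_mul_right (by norm_num) h1
  have h5 : N ∣ n := Nat.dvd_of_mul_dvd_mul_right (by norm_num) h2
  obtain ⟨m', rfl⟩ := h4
  obtain ⟨n', rfl⟩ := h5
  have hw : (g ^ N) ^ 3 = 1 := by rw [← pow_mul, mul_comm, ← hN, pow_orderOf_eq_one]
  have key : ∀ i j : ℕ, 3 ∣ m' * i + n' * j → s ^ i * t ^ j = 1 := by
    rintro i j ⟨k, hk⟩
    rw [← hm', ← hn', pow_mul g N m', pow_mul g N n', ← pow_mul (g ^ N), ← pow_mul (g ^ N), ← pow_add, hk,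
      pow_mul (g ^ N), hw, one_pow]
  have h : 3 ∣ m' ∨ 3 ∣ n' ∨ 3 ∣ m' + n' ∨ 3 ∣ m' + n' * 2 := by
    have h1 : m' % 3 = 0 ∨ m' % 3 = 1 ∨ m' % 3 = 2 := by omega
    have h2 : n' % 3 = 0 ∨ n' % 3 = 1 ∨ n' % 3 = 2 := by omega
    rcases h1 with h1 | h1 | h1 <;> rcases h2 with h2 | h2 | h2 <;> omega
  rcases h with h | h | h | h
  · exact ⟨1, 0, by norm_num, key 1 0 (by simpa using h)⟩
  · exact ⟨0, 1, by norm_num, key 0 1 (by simpa using h)⟩
  · exact ⟨1, 1, by norm_num, key 1 1 (by simpa using h)⟩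
  · exact ⟨1, 2, by norm_num, key 1 2 (by simpa using h)⟩

section

variable {F : Type} [Field F]

/-- the field part is multiplicative -/
theorem fld_pow_mul (A B : GL (Fin 3) F) (σ τ : F ≃+* F) (i j : ℕ) : ∃ D : GL (Fin 3) F,
    (cj A * fld σ : MulAut (SpecialLinearGroup (Fin 3) F)) ^ i * (cj B * fld τ) ^ j = cj D * fld (σ ^ i * τ ^ j) := by
  have h : ∀ (A : GL (Fin 3) F) (σ : F ≃+* F) (i : ℕ), ∃ D : GL (Fin 3) F,
      (cj A * fld σ : MulAut (SpecialLinearGroup (Fin 3) F)) ^ i = cj D * fld (σ ^ i) := by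
    intro A σ i
    induction i with
    | zero => exact ⟨1, by rw [pow_zero, pow_zero, map_one, map_one, one_mul]⟩
    | succ i ih =>
      obtain ⟨D, hD⟩ := ih
      exact ⟨_, by rw [pow_succ, pow_succ, hD]; exact cjfld_mul _ _ _ _⟩
  obtain ⟨D, hD⟩ := h A σ i
  obtain ⟨D', hD'⟩ := h B τ j
  exact ⟨_, by rw [hD, hD']; exact cjfld_mul _ _ _ _⟩

theorem cube_of_cjfld {A : GL (Fin 3) F} {σ : F ≃+* F}
    (h : (cj A * fld σ : MulAut (SpecialLinearGroup (Fin 3) F)) ^ 3 = 1) : σ ^ 3 = 1 := by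
  obtain ⟨D, hD⟩ := fld_pow_mul A A σ σ 3 0
  rw [pow_zero, mul_one, pow_zero, mul_one, h] at hD
  exact (injective_aux (C := D) (σ := σ ^ 3) (τ := 1) (by rw [← hD, map_one, map_one, map_one])).2

theorem mem_lin_iff {A : GL (Fin 3) F} {σ : F ≃+* F} :
    (cj A * fld σ : MulAut (SpecialLinearGroup (Fin 3) F)) ∈ (cj : GL (Fin 3) F →* _).range ↔ σ = 1 := by
  constructor
  · rintro ⟨B, hB⟩
    refine (injective_aux (C := B⁻¹ * A) (σ := σ) (τ := 1) ?_).2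
    have h1 : (cj (B⁻¹ * A) * fld σ : MulAut (SpecialLinearGroup (Fin 3) F)) = fld 1 := by
      rw [map_mul cj, map_inv, mul_assoc, ← hB, inv_mul_cancel, map_one]
    rw [h1]
  · rintro rfl
    exact ⟨A, by rw [map_one, mul_one]⟩

end

theorem gen_SL3_aux {r : ℕ} (hr : r.Prime) (hr5 : 5 ≤ r) (n : ℕ) : ∀ (F : Type) [Field F] [Fintype F] [CharP F r],
    Nat.card F = n → Gen 3 (SpecialLinearGroup (Fin 3) F) := by
  induction n using Nat.strong_induction_on with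
  | _ n ih =>
    intro F _ _ _ hn E hE hc
    have h3f : Fact (Nat.Prime 3) := ⟨Nat.prime_three⟩
    have hcyc : IsCyclic (F ≃+* F) := Cfsg.Agent.LieRecognition.FieldSemilinear.isCyclic_ringAut F
    by_cases hlin : E ≤ (cj : GL (Fin 3) F →* MulAut (SpecialLinearGroup (Fin 3) F)).range
    · exact lin_top hr hr5 hE hc hlin
    obtain ⟨ψ, hψ, hψ'⟩ := SetLike.not_le_iff_exists.1 hlin
    obtain ⟨x, hx, y, hy, hxy⟩ := exists_pair hE hc
    -- a linear element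
    obtain ⟨z, hz, hz', hz1⟩ : ∃ z ∈ E, z ∈ (cj : GL (Fin 3) F →* MulAut (SpecialLinearGroup (Fin 3) F)).range ∧ z ≠ 1 := by
      obtain ⟨A, σ, hA⟩ := exists_cjfld (hE.2 x hx)
      obtain ⟨B, τ, hB⟩ := exists_cjfld (hE.2 y hy)
      obtain ⟨i, j, hij, h1⟩ := exists_rel (cube_of_cjfld (by rw [← hA]; exact hE.2 x hx))
        (cube_of_cjfld (by rw [← hB]; exact hE.2 y hy))
      obtain ⟨D, hD⟩ := fld_pow_mul A B σ τ i j
      refine ⟨x ^ i * y ^ j, E.mul_mem (E.pow_mem hx _) (E.pow_mem hy _), ?_, fun h => hij (hxy i j h)⟩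
      rw [hA, hB, hD, h1]
      exact mem_lin_iff.2 rfl
    refine field_top (p := 3) (Lin := (cj : GL (Fin 3) F →* MulAut (SpecialLinearGroup (Fin 3) F)).range) hE hc
      (fun φ hφ hφ' => ?_) hψ hψ' hz hz' hz1
    obtain ⟨A, σ, hA⟩ := exists_cjfld (hE.2 φ hφ)
    have hσ1 : σ ≠ 1 := by
      rintro rfl
      exact hφ' (by rw [hA]; exact mem_lin_iff.2 rfl)
    obtain ⟨hord, B, hB⟩ := exists_conj (ℓ := 3) Nat.prime_three (A := A) (σ := σ)
      (by rw [← map_pow, ← hA, hE.2 φ hφ, map_one]) hσ1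
    rw [hA, hB]
    refine (dat_fld hord ?_).conj ⟨B, rfl⟩
    have hcard : Nat.card F = Nat.card ↥(fixf σ) ^ 3 := by
      rw [Nat.card_eq_fintype_card]
      exact Cfsg.Agent.CpAutU.Fld.card_fixf hord
    have h2 := Cfsg.Agent.CpAutU.Fld.two_le_card σ
    have hft : Fintype ↥(fixf σ) := Fintype.ofFinite _
    have hch : CharP ↥(fixf σ) r := inferInstance
    refine ih (Nat.card ↥(fixf σ)) ?_ ↥(fixf σ) rfl
    rw [← hn, hcard]
    exact lt_self_pow₀ (by omega) (by norm_num)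

/-- **TRI-3, linear case** -/
theorem gen_SL3 {F : Type} [Field F] [Fintype F] {r : ℕ} [CharP F r] (hr : r.Prime) (hr5 : 5 ≤ r) :
    Gen 3 (Matrix.SpecialLinearGroup (Fin 3) F) :=
  gen_SL3_aux hr hr5 _ F rfl

end Cfsg.Agent.H314.G3
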