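import Cfsg.Agent.H314.G3.UniLin
import Cfsg.Agent.H314.G3.MainL

/-!
# S2187, TRI-3: `Gen 3 SU_3(q)` (helper314)
-/

set_option autoImplicit false
set_option linter.unusedSectionVars false

namespace Cfsg.Agent.H314.G3

open Matrix Cfsg Cfsg.Agent.CpAut.Psl Cfsg.Agent.H818.Gen
open Cfsg.Agent.LieClassical.HermBasic Cfsg.Agent.LieClassical.HermSiegel
open Cfsg.Agent.ClassicalGeometry.PSUAutCount

section

variable {F : Type} [Field F] [Fintype F] {q : ℕ}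

theorem gjfj_mul (hF : Fintype.card F = q ^ 2) (hq2 : q ≠ 2) (A B : GU 3 F q) (ρ σ : F ≃+* F) :
    ∃ D : GU 3 F q, (gj A * semiConj 1 ρ : MulAut (SU 3 F q)) * (gj B * semiConj 1 σ) = gj D * semiConj 1 (ρ * σ) := by
  have hp : commutator ↥(SU 3 F q) = ⊤ :=
    Cfsg.Agent.LieClassical.HermPerfect.commutator_SU_eq_top hF le_rfl (fun h => hq2 h.2)
  refine ⟨A * Cfsg.Agent.Schreier.PSU.mapGU ρ B, lft_injective hp ?_⟩
  rw [map_mul, ← semiConj_eq, ← semiConj_eq, ← semiConj_eq, lft_semiConj, lft_semiConj, lft_semiConj,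
    Cfsg.Agent.CpAutU.Desc.toAut_mul]

theorem gjfj_pow_mul (hF : Fintype.card F = q ^ 2) (hq2 : q ≠ 2) (A B : GU 3 F q) (σ τ : F ≃+* F) (i j : ℕ) :
    ∃ D : GU 3 F q, (gj A * semiConj 1 σ : MulAut (SU 3 F q)) ^ i * (gj B * semiConj 1 τ) ^ j =
      gj D * semiConj 1 (σ ^ i * τ ^ j) := by
  have h : ∀ (A : GU 3 F q) (σ : F ≃+* F) (i : ℕ), ∃ D : GU 3 F q,
      (gj A * semiConj 1 σ : MulAut (SU 3 F q)) ^ i = gj D * semiConj 1 (σ ^ i) := by
    intro A σ i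
    induction i with
    | zero => exact ⟨1, by rw [pow_zero, pow_zero, map_one, semiConj_one_one, one_mul]⟩
    | succ i ih =>
      obtain ⟨D, hD⟩ := ih
      obtain ⟨D', hD'⟩ := gjfj_mul hF hq2 D A (σ ^ i) σ
      exact ⟨D', by rw [pow_succ, pow_succ, hD, hD']⟩
  obtain ⟨D, hD⟩ := h A σ i
  obtain ⟨D', hD'⟩ := h B τ j
  obtain ⟨D'', hD''⟩ := gjfj_mul hF hq2 D D' (σ ^ i) (τ ^ j)
  exact ⟨D'', by rw [hD, hD', hD'']⟩

theorem cube_of_gjfj (hF : Fintype.card F = q ^ 2) {A : GU 3 F q} {σ : F ≃+* F}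
    (h : (gj A * semiConj 1 σ : MulAut (SU 3 F q)) ^ 3 = 1) : σ ^ 3 = 1 := by
  have h3 : toAut A σ ^ 3 = 1 := by
    rw [← lft_semiConj, semiConj_eq, ← map_pow, h, map_one]
  exact (Cfsg.Agent.CpAutU.Desc.exists_scalar (n := 3) hF le_rfl h3).1

theorem mem_linU_iff (hF : Fintype.card F = q ^ 2) {A : GU 3 F q} {σ : F ≃+* F} :
    (gj A * semiConj 1 σ : MulAut (SU 3 F q)) ∈ (gj : GU 3 F q →* MulAut (SU 3 F q)).range ↔ σ = 1 := by
  constructor
  · rintro ⟨B, hB⟩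
    have h1 : toAut B (1 : F ≃+* F) = toAut A σ := by
      rw [← lft_semiConj, ← lft_semiConj, ← gj_eq_semiConj, semiConj_eq A σ, hB]
    exact (eq_of_toAut_eq (n := 3) hF le_rfl h1).1
  · rintro rfl
    exact ⟨A, by rw [semiConj_one_one, mul_one]⟩

end

theorem gen_SU3_aux {r : ℕ} (hr : r.Prime) (hr5 : 5 ≤ r) (n : ℕ) : ∀ (F : Type) [Field F] [Fintype F] [CharP F r] (q : ℕ),
    Fintype.card F = q ^ 2 → Nat.card F = n → Gen 3 ↥(SU 3 F q) := by
  induction n using Nat.strong_induction_on with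
  | _ n ih =>
    intro F _ _ _ q hF hn E hE hc
    have h3f : Fact (Nat.Prime 3) := ⟨Nat.prime_three⟩
    have hcyc : IsCyclic (F ≃+* F) := Cfsg.Agent.LieRecognition.FieldSemilinear.isCyclic_ringAut F
    have hro : Odd r := hr.odd_of_ne_two (by omega)
    obtain ⟨k, -, hk⟩ := FiniteField.card F r
    have h2 : (2 : F) ≠ 0 := by
      intro h
      have := Nat.le_of_dvd (by norm_num) ((CharP.cast_eq_zero_iff F r 2).1 (by exact_mod_cast h))
      omega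
    obtain ⟨m, -, hm⟩ := (Nat.dvd_prime_pow hr).1 (show q ∣ r ^ (k : ℕ) by rw [← hk, hF]; exact dvd_pow_self q two_ne_zero)
    have hqo : Odd q := by rw [hm]; exact hro.pow
    have hq2 : q ≠ 2 := by rintro rfl; exact absurd hqo (by decide)
    by_cases hlin : E ≤ (gj : GU 3 F q →* MulAut (SU 3 F q)).range
    · exact linU_top hF hr hr5 hE hc hlin
    obtain ⟨ψ, hψ, hψ'⟩ := SetLike.not_le_iff_exists.1 hlin
    obtain ⟨x, hx, y, hy, hxy⟩ := exists_pair hE hc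
    -- a linear element
    obtain ⟨z, hz, hz', hz1⟩ : ∃ z ∈ E, z ∈ (gj : GU 3 F q →* MulAut (SU 3 F q)).range ∧ z ≠ 1 := by
      obtain ⟨A, σ, hA⟩ := exists_gjfj hF hq2 x
      obtain ⟨B, τ, hB⟩ := exists_gjfj hF hq2 y
      obtain ⟨i, j, hij, h1⟩ := exists_rel (cube_of_gjfj hF (by rw [← hA]; exact hE.2 x hx))
        (cube_of_gjfj hF (by rw [← hB]; exact hE.2 y hy))
      obtain ⟨D, hD⟩ := gjfj_pow_mul hF hq2 A B σ τ i j
      refine ⟨x ^ i * y ^ j, E.mul_mem (E.pow_mem hx _) (E.pow_mem hy _), ?_, fun h => hij (hxy i j h)⟩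
      rw [hA, hB, hD, h1]
      exact (mem_linU_iff hF).2 rfl
    refine field_top (p := 3) (Lin := (gj : GU 3 F q →* MulAut (SU 3 F q)).range) hE hc
      (fun φ hφ hφ' => ?_) hψ hψ' hz hz' hz1
    obtain ⟨A, σ, hA⟩ := exists_gjfj hF hq2 φ
    have hσ1 : σ ≠ 1 := by
      rintro rfl
      exact hφ' (by rw [hA]; exact (mem_linU_iff hF).2 rfl)
    obtain ⟨hord, B, hB⟩ := exists_conjU hF hq2 (A := A) (ρ := σ) (by rw [← hA, hE.2 φ hφ]) hσ1
    rw [hA, hB]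
    obtain ⟨s, hs2, hs, hqs⟩ := Cfsg.Agent.CpAutU.Fld.exists_s' hF hord (by decide)
    have hs3 : 3 ≤ s := by
      rcases Nat.lt_or_ge s 3 with h | h
      · exfalso
        have h5 : s = 2 := by omega
        rw [hqs, h5] at hqo
        exact absurd hqo (by decide)
      · exact h
    refine (dat_fldU hF h2 hqo hord hs hqs hs3 ?_).conj ⟨B, rfl⟩
    have hcard : Nat.card F = Nat.card ↥(fixf σ) ^ 3 := by
      rw [Nat.card_eq_fintype_card]
      exact Cfsg.Agent.CpAutU.Fld.card_fixf hord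
    have h2 := Cfsg.Agent.CpAutU.Fld.two_le_card σ
    have hft : Fintype ↥(fixf σ) := Fintype.ofFinite _
    refine ih (Nat.card ↥(fixf σ)) ?_ ↥(fixf σ) s (by rw [← Nat.card_eq_fintype_card, hs]) rfl
    rw [← hn, hcard]
    exact lt_self_pow₀ (by omega) (by norm_num)

/-- **TRI-3, unitary case** -/
theorem gen_SU3 {F : Type} [Field F] [Fintype F] {r q : ℕ} [CharP F r] (hr : r.Prime) (hr5 : 5 ≤ r)
    (hF : Fintype.card F = q ^ 2) : Gen 3 ↥(SU 3 F q) :=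
  gen_SU3_aux hr hr5 _ F q hF rfl

end Cfsg.Agent.H314.G3
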