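import Cfsg.Agent.H314.G3.UniField
import Cfsg.Agent.H548.BS.Transf
import Cfsg.Agent.H557.Gp.Phan

/-!
# S2187, TRI-3: hermitian geometry (helper314)
-/

set_option autoImplicit false
set_option linter.unusedSectionVars false

namespace Cfsg.Agent.H314.G3

open Matrix Cfsg Cfsg.Agent.CpAut.Psl
open Cfsg.Agent.LieClassical.HermBasic Cfsg.Agent.LieClassical.HermSiegel
open Cfsg.Agent.ClassicalGeometry.PSUAutCount
open Cfsg.Agent.H548.BS (hermFrm isHerm)

section

variable {F : Type} [Field F] [Fintype F] {q : ℕ}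

/-- the basis of the columns of `P` -/
noncomputable def bs (P : GL (Fin 3) F) : Module.Basis (Fin 3) F (Fin 3 → F) :=
  (Pi.basisFun F (Fin 3)).map (Matrix.toLin'OfInv (M := ((P⁻¹ : GL (Fin 3) F) : Matrix (Fin 3) (Fin 3) F))
    (M' := (P : Matrix (Fin 3) (Fin 3) F))
    (by rw [← Units.val_mul, inv_mul_cancel, Units.val_one]) (by rw [← Units.val_mul, mul_inv_cancel, Units.val_one]))

theorem bs_apply (P : GL (Fin 3) F) (i : Fin 3) : bs P i = (P : Matrix (Fin 3) (Fin 3) F) *ᵥ Pi.single i 1 := by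
  unfold bs
  rw [Module.Basis.map_apply, Pi.basisFun_apply]
  rfl

theorem nd (hF : Fintype.card F = q ^ 2) {b : Module.Basis (Fin 3) F (Fin 3 → F)} {x : Fin 3 → F}
    (h : ∀ i, hermForm 3 F q x (b i) = 0) : x = 0 := by
  refine (isHerm 3 hF).nd x fun y => ?_
  rw [← b.sum_repr y]
  show hermForm 3 F q x _ = 0
  rw [show (∑ i, b.repr y i • b i) = b.repr y 0 • b 0 + b.repr y 1 • b 1 + b.repr y 2 • b 2 from Fin.sum_univ_three _]
  have hadd := (hermFrm 3 hF).add_right
  have hsm := (hermFrm 3 hF).smul_right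
  have h0 : hermForm 3 F q x (b.repr y 0 • b 0) = _ := hsm (b.repr y 0) x (b 0)
  have h1 : hermForm 3 F q x (b.repr y 1 • b 1) = _ := hsm (b.repr y 1) x (b 1)
  have h2 : hermForm 3 F q x (b.repr y 2 • b 2) = _ := hsm (b.repr y 2) x (b 2)
  have e0 : (hermFrm 3 hF).B x (b 0) = 0 := h 0
  have e1 : (hermFrm 3 hF).B x (b 1) = 0 := h 1
  have e2 : (hermFrm 3 hF).B x (b 2) = 0 := h 2
  rw [e0, mul_zero] at h0
  rw [e1, mul_zero] at h1
  rw [e2, mul_zero] at h2
  have ha : hermForm 3 F q x (b.repr y 0 • b 0 + b.repr y 1 • b 1 + b.repr y 2 • b 2) = _ := hadd x _ _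
  have hb : hermForm 3 F q x (b.repr y 0 • b 0 + b.repr y 1 • b 1) = _ := hadd x _ _
  rw [ha]
  show hermForm 3 F q x (b.repr y 0 • b 0 + b.repr y 1 • b 1) + hermForm 3 F q x (b.repr y 2 • b 2) = 0
  rw [hb, h2, add_zero]
  show hermForm 3 F q x (b.repr y 0 • b 0) + hermForm 3 F q x (b.repr y 1 • b 1) = 0
  rw [h0, h1, add_zero]

theorem hsymm (hF : Fintype.card F = q ^ 2) {x y : Fin 3 → F} (h : hermForm 3 F q x y = 0) : hermForm 3 F q y x = 0 :=
  (hermFrm 3 hF).refl x y h

/-- a similarity with eigenvalues `1, 1, ω` -/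
theorem orth_of (hF : Fintype.card F = q ^ 2) {b : Module.Basis (Fin 3) F (Fin 3 → F)} {X : GL (Fin 3) F} {c : Fˣ} {u : GU 3 F q}
    (hX : X = scg c * (u : GL (Fin 3) F)) {i j k : Fin 3} (hij : i ≠ j) (hik : i ≠ k) (hjk : j ≠ k) {ω : F} (hω : ω ^ q ≠ 1)
    (hi : en X (b i) = b i) (hj : en X (b j) = b j) (hk : en X (b k) = ω • b k) :
    (∀ v w, hermForm 3 F q (en X v) (en X w) = hermForm 3 F q v w) ∧ hermForm 3 F q (b i) (b k) = 0 ∧
      hermForm 3 F q (b j) (b k) = 0 := by
  have hsim : ∀ v w, hermForm 3 F q (en X v) (en X w) = ((c : F) * (c : F) ^ q) * hermForm 3 F q v w := by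
    intro v w
    have h1 : ∀ v, en X v = (c : F) • (gm u *ᵥ v) := by
      intro v
      rw [hX, en_mul, en_scg]
      show (c : F) • ((en (u : GL (Fin 3) F)) v) = _
      rw [en_apply]
      rfl
    have h2 : hermForm 3 F q ((c : F) • (gm u *ᵥ v)) ((c : F) • (gm u *ᵥ w)) =
        (c : F) * ((c : F) ^ q * hermForm 3 F q (gm u *ᵥ v) (gm u *ᵥ w)) := by
      have h3 : hermForm 3 F q ((c : F) • (gm u *ᵥ v)) ((c : F) • (gm u *ᵥ w)) = _ :=
        (hermFrm 3 hF).smul_left (c : F) (gm u *ᵥ v) _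
      rw [h3]
      congr 1
      exact (hermFrm 3 hF).smul_right (c : F) (gm u *ᵥ v) _
    rw [h1, h1, h2, herm_gm]
    ring
  have hall : ∀ l : Fin 3, l = i ∨ l = j ∨ l = k := by
    revert i j k
    intro i j k hij hik hjk _ _ _ l
    omega
  -- the norm of `c` is one
  have hκ : (c : F) * (c : F) ^ q = 1 := by
    by_contra hne
    have key : ∀ v w, en X v = v → en X w = w → hermForm 3 F q v w = 0 := by
      intro v w hv hw
      have h1 := hsim v w
      rw [hv, hw] at h1
      have h2 : ((c : F) * (c : F) ^ q - 1) * hermForm 3 F q v w = 0 := by linear_combination -h1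
      exact (mul_eq_zero.1 h2).resolve_left (sub_ne_zero.2 hne)
    have hii := key _ _ hi hi
    have hijz := key _ _ hi hj
    have hji := key _ _ hj hi
    have hjj := key _ _ hj hj
    -- `w = f(b j, b k) b i - f(b i, b k) b j`
    have hw0 : hermForm 3 F q (b j) (b k) • b i - hermForm 3 F q (b i) (b k) • b j = 0 := by
      apply nd hF (b := b)
      intro l
      have h3 : hermForm 3 F q (hermForm 3 F q (b j) (b k) • b i - hermForm 3 F q (b i) (b k) • b j) (b l) =
          hermForm 3 F q (b j) (b k) * hermForm 3 F q (b i) (b l) - hermForm 3 F q (b i) (b k) * hermForm 3 F q (b j) (b l) := by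
        rw [sub_eq_add_neg, ← neg_smul]
        have h4 : hermForm 3 F q (hermForm 3 F q (b j) (b k) • b i + (-hermForm 3 F q (b i) (b k)) • b j) (b l) = _ :=
          (hermFrm 3 hF).add_left _ _ _
        rw [h4, (hermFrm 3 hF).smul_left, (hermFrm 3 hF).smul_left]
        show _ * hermForm 3 F q (b i) (b l) + _ * hermForm 3 F q (b j) (b l) = _
        ring
      rw [h3]
      rcases hall l with rfl | rfl | rfl
      · rw [hii, hji]; ring
      · rw [hijz, hjj]; ring
      · ring
    have hli := b.linearIndependent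
    have h5 : hermForm 3 F q (b i) (b k) = 0 := by
      have h6 := congrArg (fun v => b.repr v j) hw0
      simp only [map_sub, map_smul, Module.Basis.repr_self, Finsupp.sub_apply, Finsupp.smul_apply, map_zero,
        Finsupp.zero_apply, Finsupp.single_eq_same, smul_eq_mul, mul_one] at h6
      rw [Finsupp.single_eq_of_ne hij.symm] at h6
      simpa using h6
    exact b.ne_zero i (nd hF (b := b) fun l => by
      rcases hall l with rfl | rfl | rfl
      · exact hii
      · exact hijz
      · exact h5)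
  have hiso : ∀ v w, hermForm 3 F q (en X v) (en X w) = hermForm 3 F q v w := fun v w => by
    rw [hsim, hκ, one_mul]
  have horth : ∀ v, en X v = v → hermForm 3 F q v (b k) = 0 := by
    intro v hv
    have h1 := hiso v (b k)
    rw [hv, hk] at h1
    have h2 : hermForm 3 F q v (ω • b k) = ω ^ q * hermForm 3 F q v (b k) := (hermFrm 3 hF).smul_right ω v (b k)
    rw [h2] at h1
    have h3 : (ω ^ q - 1) * hermForm 3 F q v (b k) = 0 := by linear_combination h1
    exact (mul_eq_zero.1 h3).resolve_left (sub_ne_zero.2 hω)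
  exact ⟨hiso, horth _ hi, horth _ hj⟩

/-- isometries fixing `b k` commute with `X` -/
theorem comm_of_fixv (hF : Fintype.card F = q ^ 2) {b : Module.Basis (Fin 3) F (Fin 3 → F)} {X : GL (Fin 3) F}
    {i j k : Fin 3} (hij : i ≠ j) (hik : i ≠ k) (hjk : j ≠ k) {ω : F}
    (hi : en X (b i) = b i) (hj : en X (b j) = b j) (hk : en X (b k) = ω • b k)
    (hbi : hermForm 3 F q (b i) (b k) = 0) (hbj : hermForm 3 F q (b j) (b k) = 0)
    {g : SU 3 F q} (hg : mat g *ᵥ b k = b k) : toG g * X = X * toG g := by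
  have hall : ∀ l : Fin 3, l = i ∨ l = j ∨ l = k := by
    revert i j k
    intro i j k hij hik hjk _ _ _ _ _ _ l
    omega
  have hkk : hermForm 3 F q (b k) (b k) ≠ 0 := by
    intro h
    exact b.ne_zero k (nd hF (b := b) fun l => by
      rcases hall l with rfl | rfl | rfl
      · exact hsymm hF hbi
      · exact hsymm hF hbj
      · exact h)
  have heg : ∀ v, en (toG g) v = mat g *ᵥ v := fun v => by rw [en_apply, coe_toG]
  have hiso : ∀ v w, hermForm 3 F q (mat g *ᵥ v) (mat g *ᵥ w) = hermForm 3 F q v w := fun v w => g.2 v w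
  -- `X` fixes the vectors orthogonal to `b k`
  have hfix : ∀ v, hermForm 3 F q v (b k) = 0 → en X v = v := by
    intro v hv
    have hsum : v = b.repr v i • b i + b.repr v j • b j + b.repr v k • b k := by
      conv_lhs => rw [← b.sum_repr v]
      have h1 : (Finset.univ : Finset (Fin 3)) = {i, j, k} := by
        ext l
        simp only [Finset.mem_univ, Finset.mem_insert, Finset.mem_singleton, true_iff]
        exact hall l
      rw [h1, Finset.sum_insert (by simp [hij, hik]), Finset.sum_insert (by simp [hjk]), Finset.sum_singleton, add_assoc]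
    have h2 : hermForm 3 F q v (b k) = b.repr v k * hermForm 3 F q (b k) (b k) := by
      conv_lhs => rw [hsum]
      have ha : hermForm 3 F q (b.repr v i • b i + b.repr v j • b j + b.repr v k • b k) (b k) = _ :=
        (hermFrm 3 hF).add_left _ _ _
      rw [ha, (hermFrm 3 hF).add_left, (hermFrm 3 hF).smul_left, (hermFrm 3 hF).smul_left, (hermFrm 3 hF).smul_left]
      show _ * hermForm 3 F q (b i) (b k) + _ * hermForm 3 F q (b j) (b k) + _ * hermForm 3 F q (b k) (b k) = _
      rw [hbi, hbj]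
      ring
    rw [hv] at h2
    have h3 : b.repr v k = 0 := (mul_eq_zero.1 h2.symm).resolve_right hkk
    rw [h3, zero_smul, add_zero] at hsum
    rw [hsum, map_add, map_smul, map_smul, hi, hj]
  apply en_injective
  apply b.ext
  intro l
  rw [en_mul, en_mul, Module.End.mul_apply, Module.End.mul_apply, heg, heg]
  rcases hall l with rfl | rfl | rfl
  · rw [hi, hfix]
    rw [← hg, hiso, hbi]
  · rw [hj, hfix]
    rw [← hg, hiso, hbj]
  · rw [hk, Matrix.mulVec_smul, hg, hk]

/-- **generation of `SU_3(q)`** -/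
theorem su_top (hF : Fintype.card F = q ^ 2) (hq : 2 < q) {b : Module.Basis (Fin 3) F (Fin 3 → F)}
    (hb : ∀ i j, i ≠ j → hermForm 3 F q (b i) (b j) = 0) {M : Subgroup (SU 3 F q)}
    (h1 : ∀ g : SU 3 F q, mat g *ᵥ b 2 = b 2 → g ∈ M) (h2 : ∀ g : SU 3 F q, mat g *ᵥ b 1 = b 1 → g ∈ M) : M = ⊤ := by
  let φ : SU 3 F q →* ((Fin 3 → F) ≃ₗ[F] (Fin 3 → F)) := Matrix.SpecialLinearGroup.toLin'.comp (SU 3 F q).subtype
  have hφi : Function.Injective φ := Matrix.SpecialLinearGroup.toLin'_injective.comp (Subgroup.subtype_injective _)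
  have hφa : ∀ g v, φ g v = mat g *ᵥ v := fun g v => rfl
  have hsurj : ∀ g ∈ (hermFrm 3 hF).Iso, LinearMap.det (g : (Fin 3 → F) →ₗ[F] (Fin 3 → F)) = 1 → ∃ g', φ g' = g := by
    intro g hg hd
    have hg2 : g ∈ (Matrix.SpecialLinearGroup.toLin' : Matrix.SpecialLinearGroup (Fin 3) F →* _).range := by
      rw [Cfsg.Agent.H548.BS.range_toLin' 3]
      exact hd
    obtain ⟨A, rfl⟩ := hg2
    exact ⟨⟨A, fun x y => hg.1 x y⟩, rfl⟩
  have hP : ∀ i j k : Fin 3, i ≠ k → j ≠ k → i ≠ j → (∀ g : SU 3 F q, mat g *ᵥ b k = b k → g ∈ M) →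
      Cfsg.Agent.H557.Gp.HasP (hermFrm 3 hF) b (M.map φ) i j := by
    intro i j k hik hjk _ hk g hg hd hfix
    obtain ⟨g', rfl⟩ := hsurj g hg hd
    refine ⟨g', hk g' ?_, rfl⟩
    rw [← hφa]
    exact hfix k hik.symm hjk.symm
  have h01 := hP 0 1 2 (by decide) (by decide) (by decide) h1
  have h02 := hP 0 2 1 (by decide) (by decide) (by decide) h2
  have hconn : ∀ i j, Relation.ReflTransGen (Cfsg.Agent.H557.Gp.HasP (hermFrm 3 hF) b (M.map φ)) i j := by
    have s01 := Relation.ReflTransGen.single h01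
    have s02 := Relation.ReflTransGen.single h02
    have s10 := Relation.ReflTransGen.single h01.symm
    have s20 := Relation.ReflTransGen.single h02.symm
    intro i j
    fin_cases i <;> fin_cases j
    · exact Relation.ReflTransGen.refl
    · exact s01
    · exact s02
    · exact s10
    · exact Relation.ReflTransGen.refl
    · exact s10.trans s02
    · exact s20
    · exact s20.trans s01
    · exact Relation.ReflTransGen.refl
  have hfin := Cfsg.Agent.H557.Gp.phan (isHerm 3 hF) hq b hb (M.map φ) hconn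
  rw [eq_top_iff]
  intro g _
  obtain ⟨g', hg', hgg⟩ := hfin (φ g) ⟨fun x y => g.2 x y, fun _ => rfl⟩ (by
    show LinearMap.det (Matrix.toLin' (mat g)) = 1
    rw [LinearMap.det_toLin']
    exact g.1.2)
  rwa [← hφi hgg]

end

end Cfsg.Agent.H314.G3
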