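import Cfsg.Agent.H314.G3.UniGeo
import Cfsg.Agent.H314.G3.Lin

/-!
# S2187, TRI-3: linear elementary abelian `3`-groups of automorphisms of `SU_3(q)` (helper314)
-/

set_option autoImplicit false
set_option linter.unusedSectionVars false

namespace Cfsg.Agent.H314.G3

open Matrix Cfsg Cfsg.Agent.CpAut.Psl Cfsg.Agent.H818.Gen
open Cfsg.Agent.LieClassical.HermBasic Cfsg.Agent.LieClassical.HermSiegel
open Cfsg.Agent.ClassicalGeometry.PSUAutCount

section

variable {F : Type} [Field F] [Fintype F] {q : ℕ}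

theorem comm_of_gj (hF : Fintype.card F = q ^ 2) {g h : GU 3 F q} (e : (gj g * gj h : MulAut (SU 3 F q)) = gj h * gj g) :
    ∃ s : Fˣ, (g : GL (Fin 3) F) * (h : GL (Fin 3) F) = scg s * ((h : GL (Fin 3) F) * (g : GL (Fin 3) F)) := by
  have h1 : (gj (g * h * (h * g)⁻¹) : MulAut (SU 3 F q)) = 1 := by
    rw [map_mul, map_inv, map_mul, map_mul, e, mul_inv_cancel]
  obtain ⟨s, hs⟩ := (gj_eq_one_iff hF).1 h1
  refine ⟨s, ?_⟩
  rw [← hs]
  show (g : GL (Fin 3) F) * (h : GL (Fin 3) F) = (g : GL (Fin 3) F) * (h : GL (Fin 3) F) *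
    ((h : GL (Fin 3) F) * (g : GL (Fin 3) F))⁻¹ * ((h : GL (Fin 3) F) * (g : GL (Fin 3) F))
  rw [inv_mul_cancel_right]

theorem cube_of_gj (hF : Fintype.card F = q ^ 2) {g : GU 3 F q} (e : (gj g : MulAut (SU 3 F q)) ^ 3 = 1) :
    IsSc ((g : GL (Fin 3) F) ^ 3) := by
  have := (gj_eq_one_iff hF (A := g ^ 3)).1 (by rw [map_pow, e])
  exact this

/-- elements commuting with a unitary matrix are fixed -/
theorem gj_fix {f : GU 3 F q} {g : SU 3 F q} (h : toG g * (f : GL (Fin 3) F) = (f : GL (Fin 3) F) * toG g) : gj f g = g := by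
  apply toG_injective
  rw [toG_gj, ← h, mul_inv_cancel_right]

/-- diagonal elements are words -/
theorem word_of_diag {P X Y : GL (Fin 3) F} {ω ω' : F} (hω3 : ω ^ 3 = 1) (hω1 : ω ≠ 1)
    (hω'3 : ω' ^ 3 = 1) (hω'1 : ω' ≠ 1)
    (hX : ((P⁻¹ * X * P : GL (Fin 3) F) : Matrix (Fin 3) (Fin 3) F) = diagonal ![1, 1, ω])
    (hY : ((P⁻¹ * Y * P : GL (Fin 3) F) : Matrix (Fin 3) (Fin 3) F) = diagonal ![1, ω', 1])
    {h : GL (Fin 3) F} (h3 : IsSc (h ^ 3)) {d : Fin 3 → F}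
    (hd : ((P⁻¹ * h * P : GL (Fin 3) F) : Matrix (Fin 3) (Fin 3) F) = diagonal d) :
    ∃ (i j : ℕ) (c : Fˣ), h = scg c * (X ^ i * Y ^ j) := by
  have hcj : ∀ (g : GL (Fin 3) F) (n : ℕ), P⁻¹ * g ^ n * P = (P⁻¹ * g * P) ^ n := by
    intro g n
    induction n with
    | zero => rw [pow_zero, pow_zero, mul_one, inv_mul_cancel]
    | succ n ih => rw [pow_succ, pow_succ, ← ih]; group
  have hd0 : ∀ i, d i ≠ 0 := by
    have h1 : IsUnit (diagonal d).det := by
      rw [← hd]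
      exact (Matrix.isUnit_iff_isUnit_det _).1 (P⁻¹ * h * P : GL (Fin 3) F).isUnit
    rw [det_diagonal] at h1
    intro i hi
    apply h1.ne_zero
    exact Finset.prod_eq_zero (Finset.mem_univ i) hi
  obtain ⟨c, hc⟩ := h3
  -- the cubes of the entries agree
  have hcube : ∀ i, d i ^ 3 = (c : F) := by
    have h1 : ((P⁻¹ * h * P : GL (Fin 3) F) : Matrix (Fin 3) (Fin 3) F) ^ 3 = (c : F) • 1 := by
      rw [← Units.val_pow_eq_pow_val, ← hcj, hc, ← scg_comm, mul_assoc, inv_mul_cancel, mul_one, coe_scg]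
    rw [hd, diagonal_pow] at h1
    intro i
    have h2 := congrFun (congrFun h1 i) i
    rw [diagonal_apply_eq, Matrix.smul_apply, Matrix.one_apply_eq, smul_eq_mul, mul_one] at h2
    exact h2
  have hroot : ∀ {w : F}, w ^ 3 = 1 → w ≠ 1 → ∀ i, ∃ k : ℕ, d i = d 0 * w ^ k := by
    intro w hw3 hw1 i
    have h1 : orderOf w = 3 := orderOf_eq_prime hw3 hw1
    have h2 : IsPrimitiveRoot w 3 := by rw [← h1]; exact IsPrimitiveRoot.orderOf w
    obtain ⟨k, -, hk⟩ := h2.eq_pow_of_pow_eq_one (ξ := d i / d 0) (by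
      rw [div_pow, hcube, hcube]
      exact div_self c.ne_zero)
    exact ⟨k, by rw [hk, mul_div_cancel₀ _ (hd0 0)]⟩
  obtain ⟨m, hm⟩ := hroot hω3 hω1 2
  obtain ⟨n, hn⟩ := hroot hω'3 hω'1 1
  refine ⟨m, n, Units.mk0 (d 0) (hd0 0), ?_⟩
  have h5 : P⁻¹ * h * P = P⁻¹ * (scg (Units.mk0 (d 0) (hd0 0)) * (X ^ m * Y ^ n)) * P := by
    have h6 : P⁻¹ * (scg (Units.mk0 (d 0) (hd0 0)) * (X ^ m * Y ^ n)) * P =
        scg (Units.mk0 (d 0) (hd0 0)) * ((P⁻¹ * X * P) ^ m * (P⁻¹ * Y * P) ^ n) := by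
      rw [← hcj, ← hcj, ← mul_assoc P⁻¹, ← scg_comm]
      group
    rw [h6]
    apply Units.ext
    rw [hd, coe_scg_mul, Units.val_mul, Units.val_pow_eq_pow_val, Units.val_pow_eq_pow_val, hX, hY, diagonal_pow,
      diagonal_pow, diagonal_mul_diagonal, ← diagonal_smul]
    congr 1
    funext i
    fin_cases i
    · simp
    · simp [hn]
    · simp [hm]
  have h7 : h = P * (P⁻¹ * h * P) * P⁻¹ := by group
  rw [h7, h5]
  group

end

section fin

variable {F : Type} [Field F] [Fintype F] {q r : ℕ} [CharP F r]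

/-- **linear case** -/
theorem linU_top (hF : Fintype.card F = q ^ 2) (hr : r.Prime) (hr5 : 5 ≤ r) {E : Subgroup (MulAut (SU 3 F q))}
    (hE : IsElementaryAbelian 3 E) (hc : 3 ^ 2 ≤ Nat.card E)
    (hlin : E ≤ (gj : GU 3 F q →* MulAut (SU 3 F q)).range) : Gam 3 E = ⊤ := by
  have h3f : Fact (Nat.Prime 3) := ⟨Nat.prime_three⟩
  have hn0 : ∀ m : ℕ, m < 5 → 0 < m → (m : F) ≠ 0 := by
    intro m hm hm0 h
    have := Nat.le_of_dvd hm0 ((CharP.cast_eq_zero_iff F r m).1 h)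
    omega
  have h2 : (2 : F) ≠ 0 := by exact_mod_cast hn0 2 (by norm_num) (by norm_num)
  have h3 : (3 : F) ≠ 0 := by exact_mod_cast hn0 3 (by norm_num) (by norm_num)
  obtain ⟨n, hrp, hn⟩ := FiniteField.card F r
  have hqr : q ∣ r ^ (n : ℕ) := by rw [← hn, hF]; exact dvd_pow_self q two_ne_zero
  obtain ⟨m, -, hm⟩ := (Nat.dvd_prime_pow hr).1 hqr
  have h3q : ¬ 3 ∣ q := by
    intro h
    rw [hm] at h
    have h8 := (Nat.prime_dvd_prime_iff_eq Nat.prime_three hr).1 ((Nat.prime_three).dvd_of_dvd_pow h)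
    omega
  have hq2 : 2 < q := by
    have h1 : 1 < q ^ 2 := by rw [← hF]; exact Fintype.one_lt_card
    have hm0 : m ≠ 0 := by
      rintro rfl
      rw [hm, pow_zero] at h1
      norm_num at h1
    have : r ≤ q := by rw [hm]; exact Nat.le_self_pow hm0 r
    omega
  have hωq : ∀ {w : F}, w ^ 3 = 1 → w ≠ 1 → w ^ q ≠ 1 := by
    intro w hw3 hw1 h
    have h1 : orderOf w = 3 := orderOf_eq_prime hw3 hw1
    exact h3q (by rw [← h1]; exact orderOf_dvd_of_pow_eq_one h)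
  have hcomm : ∀ a ∈ E, ∀ b ∈ E, a * b = b * a := fun a ha b hb =>
    congrArg (fun z : ↥E => (z : MulAut (SU 3 F q))) (hE.1.1.1 ⟨a, ha⟩ ⟨b, hb⟩)
  by_cases hab : ∀ a b : GU 3 F q, gj a ∈ E → gj b ∈ E → (a : GL (Fin 3) F) * (b : GL (Fin 3) F) =
      (b : GL (Fin 3) F) * (a : GL (Fin 3) F)
  · obtain ⟨x, hx, y, hy, hxy⟩ := exists_pair hE hc
    obtain ⟨a, rfl⟩ := hlin hx
    obtain ⟨b, rfl⟩ := hlin hy
    obtain ⟨P, X, Y, ω, ω', hω3, hω1, hω'3, hω'1, ⟨i, j, c, hX⟩, ⟨i', j', c', hY⟩, hPX, hPY⟩ :=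
      exists_eig h2 h3 (hab a b hx hy) (cube_of_gj hF (hE.2 _ hx)) (cube_of_gj hF (hE.2 _ hy)) (fun i j h => hxy i j (by
        rw [← map_pow, ← map_pow, ← map_mul]
        exact (gj_eq_one_iff hF).2 h))
    obtain ⟨u, hu⟩ : ∃ u : GU 3 F q, u = a ^ i * b ^ j := ⟨_, rfl⟩
    obtain ⟨v, hv⟩ : ∃ v : GU 3 F q, v = a ^ i' * b ^ j' := ⟨_, rfl⟩
    have hXu : X = scg c * (u : GL (Fin 3) F) := by rw [hX, hu]; rfl
    have hYv : Y = scg c' * (v : GL (Fin 3) F) := by rw [hY, hv]; rfl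
    have huE : gj u ∈ E := by
      rw [hu, map_mul, map_pow, map_pow]
      exact E.mul_mem (E.pow_mem hx _) (E.pow_mem hy _)
    have hvE : gj v ∈ E := by
      rw [hv, map_mul, map_pow, map_pow]
      exact E.mul_mem (E.pow_mem hx _) (E.pow_mem hy _)
    -- eigenvectors
    have heig : ∀ (Z : GL (Fin 3) F) (d : Fin 3 → F),
        ((P⁻¹ * Z * P : GL (Fin 3) F) : Matrix (Fin 3) (Fin 3) F) = diagonal d → ∀ l, en Z (bs P l) = d l • bs P l := by
      intro Z d hd l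
      have h5 : Z * P = P * (P⁻¹ * Z * P) := by group
      have h6 : en Z (bs P l) = en (Z * P) (Pi.single l 1) := by
        rw [en_mul, Module.End.mul_apply, en_apply P, bs_apply]
      have h7 : en (P⁻¹ * Z * P) (Pi.single l 1) = d l • Pi.single l 1 := by
        rw [en_apply, hd, Matrix.mulVec_single_one]
        ext k
        rw [Matrix.col_apply, diagonal_apply, Pi.smul_apply, Pi.single_apply, smul_eq_mul]
        split_ifs with hkl
        · rw [hkl, mul_one]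
        · rw [mul_zero]
      rw [h6, h5, en_mul, Module.End.mul_apply, h7, map_smul, bs_apply, en_apply P]
    have eX0 : en X (bs P 0) = bs P 0 := (heig X _ hPX 0).trans (one_smul F _)
    have eX1 : en X (bs P 1) = bs P 1 := (heig X _ hPX 1).trans (one_smul F _)
    have eX2 : en X (bs P 2) = ω • bs P 2 := heig X _ hPX 2
    have eY0 : en Y (bs P 0) = bs P 0 := (heig Y _ hPY 0).trans (one_smul F _)
    have eY1 : en Y (bs P 1) = ω' • bs P 1 := heig Y _ hPY 1
    have eY2 : en Y (bs P 2) = bs P 2 := (heig Y _ hPY 2).trans (one_smul F _)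
    obtain ⟨-, o02, o12⟩ := orth_of hF (b := bs P) hXu (i := 0) (j := 1) (k := 2) (by decide) (by decide) (by decide)
      (hωq hω3 hω1) eX0 eX1 eX2
    obtain ⟨-, o01, o21⟩ := orth_of hF (b := bs P) hYv (i := 0) (j := 2) (k := 1) (by decide) (by decide) (by decide)
      (hωq hω'3 hω'1) eY0 eY2 eY1
    have horth : ∀ i j, i ≠ j → hermForm 3 F q (bs P i) (bs P j) = 0 := by
      intro i j hij
      fin_cases i <;> fin_cases j
      · exact absurd rfl hij
      · exact o01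
      · exact o02
      · exact hsymm hF o01
      · exact absurd rfl hij
      · exact o12
      · exact hsymm hF o02
      · exact o21
      · exact absurd rfl hij
    -- `|E| = 9`
    have hE9 : Nat.card E = 3 ^ 2 := by
      refine card_eq_nine hE hc huE hvE fun φ hφ => ?_
      obtain ⟨h, rfl⟩ := hlin hφ
      have hcu : ∀ w : GU 3 F q, gj w ∈ E → (h : GL (Fin 3) F) * (w : GL (Fin 3) F) = (w : GL (Fin 3) F) * (h : GL (Fin 3) F) :=
        fun w hw => hab h w hφ hw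
      have k1 : ∀ (w : GU 3 F q) (t : Fˣ) (W : GL (Fin 3) F), gj w ∈ E → W = scg t * (w : GL (Fin 3) F) →
          (P⁻¹ * h * P) * (P⁻¹ * W * P) = (P⁻¹ * W * P) * (P⁻¹ * h * P) := by
        intro w t W hw hW
        have h5 : (h : GL (Fin 3) F) * W = W * (h : GL (Fin 3) F) := by
          rw [hW, ← mul_assoc, ← scg_comm, mul_assoc, hcu w hw, mul_assoc]
        calc (P⁻¹ * h * P) * (P⁻¹ * W * P) = P⁻¹ * (h * W) * P := by group
          _ = P⁻¹ * (W * h) * P := by rw [h5]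
          _ = _ := by group
      have k2 : ((P⁻¹ * h * P : GL (Fin 3) F) : Matrix (Fin 3) (Fin 3) F) * ((P⁻¹ * X * P : GL (Fin 3) F)) =
        ((P⁻¹ * X * P : GL (Fin 3) F) : Matrix (Fin 3) (Fin 3) F) * ((P⁻¹ * h * P : GL (Fin 3) F)) :=
          congrArg Units.val (k1 u c X huE hXu)
      have k3 : ((P⁻¹ * h * P : GL (Fin 3) F) : Matrix (Fin 3) (Fin 3) F) * ((P⁻¹ * Y * P : GL (Fin 3) F)) =
        ((P⁻¹ * Y * P : GL (Fin 3) F) : Matrix (Fin 3) (Fin 3) F) * ((P⁻¹ * h * P : GL (Fin 3) F)) :=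
          congrArg Units.val (k1 v c' Y hvE hYv)
      rw [hPX] at k2
      rw [hPY] at k3
      obtain ⟨m1, n1, t, ht⟩ := word_of_diag hω3 hω1 hω'3 hω'1 hPX hPY (cube_of_gj hF (hE.2 _ hφ))
        (diag_of_comm hω1 hω'1 k2 k3)
      refine ⟨m1, n1, ?_⟩
      have h6 : ∀ (c : Fˣ) (g : GL (Fin 3) F) (k : ℕ), (scg c * g) ^ k = scg (c ^ k) * g ^ k := fun c g k => by
        rw [(show Commute (scg c) g from scg_comm c g).mul_pow, scg_pow]
      have h7 : (h : GL (Fin 3) F) = scg (t * (c ^ m1 * c' ^ n1)) * ((u : GL (Fin 3) F) ^ m1 * (v : GL (Fin 3) F) ^ n1) := by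
        rw [ht, hXu, hYv, h6, h6, scg_mul, scg_mul]
        calc scg t * (scg (c ^ m1) * (u : GL (Fin 3) F) ^ m1 * (scg (c' ^ n1) * (v : GL (Fin 3) F) ^ n1)) =
              scg t * (scg (c ^ m1) * ((u : GL (Fin 3) F) ^ m1 * scg (c' ^ n1)) * (v : GL (Fin 3) F) ^ n1) := by
                simp only [mul_assoc]
          _ = scg t * (scg (c ^ m1) * (scg (c' ^ n1) * (u : GL (Fin 3) F) ^ m1) * (v : GL (Fin 3) F) ^ n1) := by
                rw [scg_comm (c' ^ n1)]
          _ = _ := by simp only [mul_assoc]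
      have h8 : (gj (h * (u ^ m1 * v ^ n1)⁻¹) : MulAut (SU 3 F q)) = 1 := by
        apply (gj_eq_one_iff hF).2
        refine ⟨t * (c ^ m1 * c' ^ n1), ?_⟩
        show (h : GL (Fin 3) F) * ((u : GL (Fin 3) F) ^ m1 * (v : GL (Fin 3) F) ^ n1)⁻¹ = _
        rw [h7, mul_inv_cancel_right]
      rw [map_mul, map_inv, mul_inv_eq_one, map_mul, map_pow, map_pow] at h8
      exact h8
    have hnsX : (gj u : MulAut (SU 3 F q)) ≠ 1 := by
      intro h
      obtain ⟨t, ht⟩ := (gj_eq_one_iff hF).1 h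
      have h5 : en X (bs P 0) = (c : F) • (t : F) • bs P 0 := by
        rw [hXu, ht, en_mul, en_scg, en_scg]; rfl
      have h6 : en X (bs P 2) = (c : F) • (t : F) • bs P 2 := by
        rw [hXu, ht, en_mul, en_scg, en_scg]; rfl
      rw [eX0, smul_smul] at h5
      rw [eX2, smul_smul] at h6
      have h7 : (c : F) * t = 1 := by
        have h8 : ((c : F) * t - 1) • bs P 0 = 0 := by rw [sub_smul, one_smul, ← h5, sub_self]
        exact sub_eq_zero.1 ((smul_eq_zero.1 h8).resolve_right ((bs P).ne_zero 0))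
      have h8 : (ω - (c : F) * t) • bs P 2 = 0 := by rw [sub_smul, ← h6, sub_self]
      have h9 := sub_eq_zero.1 ((smul_eq_zero.1 h8).resolve_right ((bs P).ne_zero 2))
      exact hω1 (h9.trans h7)
    have hnsY : (gj v : MulAut (SU 3 F q)) ≠ 1 := by
      intro h
      obtain ⟨t, ht⟩ := (gj_eq_one_iff hF).1 h
      have h5 : en Y (bs P 0) = (c' : F) • (t : F) • bs P 0 := by
        rw [hYv, ht, en_mul, en_scg, en_scg]; rfl
      have h6 : en Y (bs P 1) = (c' : F) • (t : F) • bs P 1 := by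
        rw [hYv, ht, en_mul, en_scg, en_scg]; rfl
      rw [eY0, smul_smul] at h5
      rw [eY1, smul_smul] at h6
      have h7 : (c' : F) * t = 1 := by
        have h8 : ((c' : F) * t - 1) • bs P 0 = 0 := by rw [sub_smul, one_smul, ← h5, sub_self]
        exact sub_eq_zero.1 ((smul_eq_zero.1 h8).resolve_right ((bs P).ne_zero 0))
      have h8 : (ω' - (c' : F) * t) • bs P 1 = 0 := by rw [sub_smul, ← h6, sub_self]
      have h9 := sub_eq_zero.1 ((smul_eq_zero.1 h8).resolve_right ((bs P).ne_zero 1))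
      exact hω'1 (h9.trans h7)
    have hcm : ∀ (w : GU 3 F q) (t : Fˣ) (W : GL (Fin 3) F) (g : SU 3 F q), W = scg t * (w : GL (Fin 3) F) →
        toG g * W = W * toG g → toG g * (w : GL (Fin 3) F) = (w : GL (Fin 3) F) * toG g := by
      intro w t W g hW h
      have h5 : (w : GL (Fin 3) F) = scg t⁻¹ * W := by
        rw [hW, ← mul_assoc, ← scg_mul, inv_mul_cancel, ← one_eq_scg, one_mul]
      rw [h5, ← mul_assoc, ← scg_comm, mul_assoc, h, mul_assoc]
    refine su_top hF hq2 horth (fun g hg => ?_) fun g hg => ?_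
    · refine mem_Gam_of_fixed hE hE9 huE hnsX (gj_fix (hcm u c X g hXu ?_))
      exact comm_of_fixv hF (b := bs P) (i := 0) (j := 1) (k := 2) (by decide) (by decide) (by decide) eX0 eX1 eX2
        o02 o12 hg
    · refine mem_Gam_of_fixed hE hE9 hvE hnsY (gj_fix (hcm v c' Y g hYv ?_))
      exact comm_of_fixv hF (b := bs P) (i := 0) (j := 2) (k := 1) (by decide) (by decide) (by decide) eY0 eY2 eY1
        o01 o21 hg
  · push Not at hab
    obtain ⟨a, b, ha, hb, hne⟩ := hab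
    obtain ⟨ζ, hζ⟩ := comm_of_gj hF (hcomm _ ha _ hb)
    have hζ1 : ζ ≠ 1 := by
      rintro rfl
      exact hne (comm_of_wt hζ rfl).symm
    have ha3 := cube_of_gj hF (hE.2 _ ha)
    have hb3 := cube_of_gj hF (hE.2 _ hb)
    have hE9 : Nat.card E = 3 ^ 2 := by
      refine card_eq_nine hE hc ha hb fun φ hφ => ?_
      obtain ⟨N, rfl⟩ := hlin hφ
      obtain ⟨s, hs⟩ := comm_of_gj hF (hcomm _ ha _ hφ)
      obtain ⟨t, ht⟩ := comm_of_gj hF (hcomm _ hb _ hφ)
      obtain ⟨i, j, hij⟩ := heis_word hζ1 hζ ha3 hb3 hs ht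
      have h5 : (gj (N * (a ^ i * b ^ j)) : MulAut (SU 3 F q)) = 1 := (gj_eq_one_iff hF).2 hij
      rw [map_mul, map_mul, map_pow, map_pow] at h5
      refine ⟨i + i, j + j, ?_⟩
      have h6 : (gj a ^ i) * (gj a ^ (i + i)) = (1 : MulAut (SU 3 F q)) := by
        rw [← pow_add, show i + (i + i) = 3 * i by ring, pow_mul, hE.2 _ ha, one_pow]
      have h7 : (gj b ^ j) * (gj b ^ (j + j)) = (1 : MulAut (SU 3 F q)) := by
        rw [← pow_add, show j + (j + j) = 3 * j by ring, pow_mul, hE.2 _ hb, one_pow]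
      have h8 : (gj a ^ i * gj b ^ j) * (gj a ^ (i + i) * gj b ^ (j + j)) = (1 : MulAut (SU 3 F q)) := by
        have h9 : gj b ^ j * gj a ^ (i + i) = gj a ^ (i + i) * (gj b : MulAut (SU 3 F q)) ^ j :=
          hcomm _ (E.pow_mem hb _) _ (E.pow_mem ha _)
        calc (gj a ^ i * gj b ^ j) * (gj a ^ (i + i) * gj b ^ (j + j)) =
              gj a ^ i * (gj b ^ j * gj a ^ (i + i)) * gj b ^ (j + j) := by simp only [mul_assoc]
          _ = (gj a ^ i * gj a ^ (i + i)) * (gj b ^ j * gj b ^ (j + j)) := by rw [h9]; simp only [mul_assoc]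
          _ = 1 := by rw [h6, h7, one_mul]
      calc (gj N : MulAut (SU 3 F q)) =
            gj N * ((gj a ^ i * gj b ^ j) * (gj a ^ (i + i) * gj b ^ (j + j))) := by rw [h8, mul_one]
        _ = (gj N * (gj a ^ i * gj b ^ j)) * (gj a ^ (i + i) * gj b ^ (j + j)) := by simp only [mul_assoc]
        _ = _ := by rw [h5, one_mul]
    have hgen := Cfsg.Agent.H321.Ker.gen_SU (p := 3) (by norm_num) (F := F) hF (Or.inr h2)
      (H := (E.comap gj).map (GU 3 F q).subtype) (a := (a : GL (Fin 3) F)) (b := (b : GL (Fin 3) F))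
      ⟨a, ha, rfl⟩ ⟨b, hb, rfl⟩ a.2 b.2 hζ1
      (by rw [← Units.val_mul, hζ, coe_scg_mul, Units.val_mul]) (isSc_iff_mem.1 ha3) (isSc_iff_mem.1 hb3)
    have hle : Cfsg.Agent.H321.Ker.Mc (GU 3 F q ⊓ Cfsg.Geo.specialLinear (Fin 3) F) ((E.comap gj).map (GU 3 F q).subtype) ≤
        (Gam 3 E).map toG := by
      refine (Subgroup.closure_le _).2 ?_
      rintro g ⟨hg, f, ⟨f', hf', rfl⟩, hs, hgf⟩
      obtain ⟨g', rfl⟩ := exists_toG hg
      refine ⟨g', ?_, rfl⟩
      exact mem_Gam_of_fixed hE hE9 (e := gj f') hf' (fun h => hs (isSc_iff_mem.1 ((gj_eq_one_iff hF).1 h))) (gj_fix hgf)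
    rw [hgen] at hle
    rw [eq_top_iff]
    intro g _
    obtain ⟨g', hg', hgg⟩ := hle (toG_mem g)
    rwa [← toG_injective hgg]

end fin

end Cfsg.Agent.H314.G3
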